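import Groth.Agent.PointLower.Fibres
import Groth.Agent.ZetaEuler.Euler

/-!
# Primes at which a number field has a rational residue: divergence of `∑ p^{-τ}` for `τ ≤ 1`
-/

set_option autoImplicit false
set_option maxSynthPendingDepth 3

universe u

open scoped NumberField
open NumberField Filter Topology

namespace Groth.Agent.PointLower

variable (L : Type u) [Field L] [NumberField L]

/-- The nonzero primes of the ring of integers. -/
abbrev Prm : Type u := {P : Ideal (𝓞 L) // P.IsPrime ∧ P ≠ ⊥}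

theorem prm_norm (P : Prm L) :
    ∃ (p f : ℕ), p.Prime ∧ 1 ≤ f ∧ Ideal.absNorm P.1 = p ^ f ∧ ((p : ℕ) : 𝓞 L) ∈ P.1 := by
  obtain ⟨P, hP, hP0⟩ := P
  haveI := hP
  haveI : P.IsMaximal := hP.isMaximal hP0
  letI := Ideal.Quotient.field P
  haveI : Finite (𝓞 L ⧸ P) := Ideal.finiteQuotientOfFreeOfNeBot P hP0
  letI := Fintype.ofFinite (𝓞 L ⧸ P)
  obtain ⟨p, hp⟩ := CharP.exists (𝓞 L ⧸ P)
  obtain ⟨f, hpp, hf⟩ := FiniteField.card (𝓞 L ⧸ P) p
  refine ⟨p, f, hpp, f.pos, ?_, ?_⟩
  · rw [Ideal.absNorm_apply, Submodule.cardQuot_apply, ← hf, ← Nat.card_eq_fintype_card]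
  · rw [← Ideal.Quotient.eq_zero_iff_mem, map_natCast]
    exact CharP.cast_eq_zero _ p

/-- The sum of the inverse norms of the primes diverges. -/
theorem not_summable_norm : ¬ Summable fun P : Prm L => ((Ideal.absNorm P.1 : ℕ) : ℝ) ^ (-(1 : ℝ)) := by
  classical
  intro hsum
  let w : Prm L → ℕ := fun P => Ideal.absNorm P.1
  have hw : ∀ P, 2 ≤ w P := fun P => by
    obtain ⟨p, f, hp, hf, h, -⟩ := prm_norm L P
    show 2 ≤ Ideal.absNorm P.1
    rw [h]
    exact hp.two_le.trans (Nat.le_self_pow (by omega) p)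
  let a : ℕ → ℂ := fun n => (Nat.card {α : Prm L →₀ ℕ // (α.prod fun i m => w i ^ m) = n} : ℂ)
  obtain ⟨ha, -⟩ := Groth.Agent.ZetaEuler.lseries w hw a (fun n => rfl) (1 : ℂ) (by simp)
    (by simpa using hsum)
  have hfin : ∀ n : ℕ, n ≠ 0 → Finite {α : Prm L →₀ ℕ // (α.prod fun i m => w i ^ m) = n} := by
    intro n hn
    have hs : {P : Prm L | w P ≤ n}.Finite :=
      (Ideal.finite_setOfPred_absNorm_le (S := 𝓞 L) n).preimage Subtype.val_injective.injOn
    haveI := hs.to_subtype
    refine Finite.of_injective (fun α (P : {P : Prm L | w P ≤ n}) =>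
      (⟨min (α.1 P.1) n, Nat.lt_succ_of_le (min_le_right _ _)⟩ : Fin (n + 1))) fun α β he => ?_
    have hle : ∀ γ : {α : Prm L →₀ ℕ // (α.prod fun i m => w i ^ m) = n}, ∀ P ∈ γ.1.support,
        w P ^ γ.1 P ≤ n := fun γ P hP => by
      refine Nat.le_of_dvd (Nat.pos_of_ne_zero hn) ?_
      conv_rhs => rw [← γ.2]
      exact Finset.dvd_prod_of_mem _ hP
    have hexp : ∀ γ : {α : Prm L →₀ ℕ // (α.prod fun i m => w i ^ m) = n}, ∀ P,
        γ.1 P ≤ n ∧ (¬ w P ≤ n → γ.1 P = 0) := fun γ P => by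
      rcases eq_or_ne (γ.1 P) 0 with h0 | h0
      · exact ⟨h0 ▸ Nat.zero_le _, fun _ => h0⟩
      · have h1 := hle γ P (Finsupp.mem_support_iff.2 h0)
        refine ⟨((Nat.lt_two_pow_self (n := γ.1 P)).le.trans (Nat.pow_le_pow_left (hw P) _)).trans h1,
          fun h => absurd ((Nat.le_self_pow h0 _).trans h1) h⟩
    refine Subtype.ext (Finsupp.ext fun P => ?_)
    by_cases hP : w P ≤ n
    · have h1 := congrArg Fin.val (congrFun he ⟨P, hP⟩)
      simpa [min_eq_left (hexp α P).1, min_eq_left (hexp β P).1] using h1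
    · rw [(hexp α P).2 hP, (hexp β P).2 hP]
  have hle : ∀ n : ℕ, n ≠ 0 → Nat.card {I : Ideal (𝓞 L) // Ideal.absNorm I = n} ≤
      Nat.card {α : Prm L →₀ ℕ // (α.prod fun i m => w i ^ m) = n} := by
    intro n hn
    haveI := hfin n hn
    have hI : ∀ I : {I : Ideal (𝓞 L) // Ideal.absNorm I = n}, I.1 ≠ ⊥ := fun I h => hn (by
      rw [← I.2, h, Ideal.absNorm_bot])
    have hex : ∀ I : {I : Ideal (𝓞 L) // Ideal.absNorm I = n},
        ∃ m : Multiset (Prm L), (m.map Subtype.val).prod = I.1 := fun I => by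
      refine ⟨(UniqueFactorizationMonoid.normalizedFactors I.1).attach.map fun P => ⟨P.1,
        Ideal.isPrime_of_prime (UniqueFactorizationMonoid.prime_of_normalized_factor _ P.2),
        (UniqueFactorizationMonoid.prime_of_normalized_factor _ P.2).ne_zero⟩, ?_⟩
      rw [Multiset.map_map]
      show ((UniqueFactorizationMonoid.normalizedFactors I.1).attach.map Subtype.val).prod = _
      rw [Multiset.attach_map_val]
      exact associated_iff_eq.1 (UniqueFactorizationMonoid.prod_normalizedFactors (hI I))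
    choose m hm using hex
    refine Nat.card_le_card_of_injective (fun I => ⟨Multiset.toFinsupp (m I), ?_⟩) fun I J h => ?_
    · rw [← I.2, ← hm I, map_multiset_prod, Multiset.map_map]
      show _ = ((m I).map w).prod
      conv_rhs => rw [← Multiset.toFinsupp_toMultiset (m I)]
      rw [Finsupp.toMultiset_map, Finsupp.prod_toMultiset, Finsupp.prod_mapDomain_index (fun _ => pow_zero _)
        fun _ _ _ => pow_add _ _ _]
    · have h1 := Multiset.toFinsupp.injective (congrArg Subtype.val h)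
      exact Subtype.ext (by rw [← hm I, ← hm J, h1])
  have hterm : Summable fun n : ℕ => ‖LSeries.term a 1 n‖ := ha.norm
  set C := ∑' n : ℕ, ‖LSeries.term a 1 n‖
  have hb : ∀ s : ℝ, 1 < s → ‖dedekindZeta L s‖ ≤ C := fun s hs => by
    have hbd : ∀ n : ℕ, ‖LSeries.term (fun n => (Nat.card {I : Ideal (𝓞 L) // Ideal.absNorm I = n} : ℂ)) (s : ℂ) n‖
        ≤ ‖LSeries.term a 1 n‖ := fun n => by
      rw [LSeries.norm_term_eq, LSeries.norm_term_eq]
      split_ifs with hn
      · exact le_rfl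
      have hn1 : (1 : ℝ) ≤ n := by exact_mod_cast Nat.one_le_iff_ne_zero.2 hn
      rw [Complex.ofReal_re, Complex.one_re, Real.rpow_one, RCLike.norm_natCast]
      refine div_le_div₀ (norm_nonneg _) ?_ (by linarith) (Real.self_le_rpow_of_one_le hn1 hs.le)
      simp only [a, RCLike.norm_natCast]
      exact_mod_cast hle n hn
    exact tsum_of_norm_bounded hterm.hasSum hbd
  have hlim := tendsto_sub_one_mul_dedekindZeta_nhdsGT L
  have hzero : Tendsto (fun s : ℝ => ((s : ℂ) - 1) * dedekindZeta L s) (𝓝[>] 1) (𝓝 0) := by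
    refine squeeze_zero_norm' (a := fun s : ℝ => (s - 1) * C) ?_ ?_
    · filter_upwards [self_mem_nhdsWithin] with s hs
      have hs' : (1 : ℝ) < s := hs
      rw [norm_mul, ← Complex.ofReal_one, ← Complex.ofReal_sub, Complex.norm_real,
        Real.norm_of_nonneg (by linarith)]
      exact mul_le_mul_of_nonneg_left (hb s hs') (by linarith)
    · refine (tendsto_nhdsWithin_of_tendsto_nhds ?_)
      have : Continuous fun s : ℝ => (s - 1) * C := by fun_prop
      simpa using this.tendsto 1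
  have := tendsto_nhds_unique hlim hzero
  exact dedekindZeta_residue_ne_zero L (by exact_mod_cast this)

/-- The primes `p` with a degree-one prime of `L` above `p` avoiding `a`. -/
def Good₁ (a : 𝓞 L) : Set ℕ :=
  {p | p.Prime ∧ ∃ P : Prm L, Ideal.absNorm P.1 = p ∧ a ∉ P.1}

/-- The sum of `p^{-τ}` over those primes diverges for `τ ≤ 1`. -/
theorem not_summable_good {a : 𝓞 L} (ha : a ≠ 0) {τ : ℝ} (hτ : τ ≤ 1) :
    ¬ Summable ((Good₁ L a).indicator fun p : ℕ => (p : ℝ) ^ (-τ)) := by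
  classical
  intro hsum
  apply not_summable_norm L
  choose p f hp hf hN hmem using prm_norm L
  let h : ℕ → ℝ := fun q => (Good₁ L a).indicator (fun p : ℕ => (p : ℝ) ^ (-τ)) q + (q : ℝ) ^ (-(2 : ℝ))
  have hh : Summable h := hsum.add (Real.summable_nat_rpow.2 (by norm_num))
  have hh0 : ∀ q, 0 ≤ h q := fun q => add_nonneg (Set.indicator_nonneg (fun _ _ => by positivity) _)
    (by positivity)
  have hfin : {P : Prm L | a ∈ P.1}.Finite := by
    have h0 : Ideal.span {a} ≠ (⊥ : Ideal (𝓞 L)) := by simpa [Ideal.span_singleton_eq_bot] using ha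
    refine ((Ideal.finite_factors h0).preimage (f := fun P : Prm L =>
      (⟨P.1, P.2.1, P.2.2⟩ : IsDedekindDomain.HeightOneSpectrum (𝓞 L)))
      (fun P _ Q _ h => Subtype.ext (congrArg (fun v => v.asIdeal) h))).subset fun P hP =>
      Ideal.dvd_iff_le.2 ((Ideal.span_singleton_le_iff_mem _).2 hP)
  refine Summable.of_norm_bounded_eventually (g := fun P => h (p P)) ?_ ?_
  · set n := Module.finrank ℤ (𝓞 L)
    refine summable_of_sum_le (c := n * ∑' q, h q) (fun P => hh0 _) fun s => ?_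
    have hcount : ∀ q ∈ s.image p, (s.filter fun P => p P = q).card ≤ n := fun q hq => by
      obtain ⟨P₀, hP₀, rfl⟩ := Finset.mem_image.1 hq
      set t := s.filter fun P => p P = p P₀
      have hdvd : ∏ P ∈ t, P.1 ∣ Ideal.span {((p P₀ : ℕ) : 𝓞 L)} := by
        rw [show ∏ P ∈ t, P.1 = ∏ I ∈ t.image Subtype.val, I from
          (Finset.prod_image (f := fun I : Ideal (𝓞 L) => I) Subtype.val_injective.injOn).symm]
        refine Finset.prod_primes_dvd _ ?_ ?_
        · simp only [Finset.mem_image]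
          rintro _ ⟨P, -, rfl⟩
          exact Ideal.prime_of_isPrime P.2.2 P.2.1
        · simp only [Finset.mem_image]
          rintro _ ⟨P, hP, rfl⟩
          exact Ideal.dvd_iff_le.2 ((Ideal.span_singleton_le_iff_mem _).2
            ((Finset.mem_filter.1 hP).2 ▸ hmem P))
      have h1 := map_dvd Ideal.absNorm hdvd
      rw [map_prod, Ideal.absNorm_span_singleton] at h1
      rw [show ((p P₀ : ℕ) : 𝓞 L) = algebraMap ℤ (𝓞 L) (p P₀ : ℤ) by simp, Algebra.norm_algebraMap,
        Int.natAbs_pow, Int.natAbs_natCast] at h1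
      have h2 : p P₀ ^ t.card ∣ ∏ P ∈ t, Ideal.absNorm P.1 := by
        rw [← Finset.prod_const]
        refine Finset.prod_dvd_prod_of_dvd _ _ fun P hP => ?_
        rw [hN P, (Finset.mem_filter.1 hP).2]
        exact dvd_pow_self _ (by have := hf P; omega)
      exact (Nat.pow_dvd_pow_iff_le_right (hp P₀).one_lt).1 (h2.trans h1)
    calc ∑ P ∈ s, h (p P) = ∑ q ∈ s.image p, ∑ P ∈ s.filter (fun P => p P = q), h (p P) :=
          (Finset.sum_fiberwise_of_maps_to (fun P hP => Finset.mem_image_of_mem p hP) _).symm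
      _ ≤ ∑ q ∈ s.image p, (n : ℝ) * h q := Finset.sum_le_sum fun q hq => by
          rw [Finset.sum_congr rfl fun P hP => by rw [(Finset.mem_filter.1 hP).2], Finset.sum_const,
            nsmul_eq_mul]
          exact mul_le_mul_of_nonneg_right (by exact_mod_cast hcount q hq) (hh0 q)
      _ ≤ n * ∑' q, h q := by
          rw [← Finset.mul_sum]
          exact mul_le_mul_of_nonneg_left (hh.sum_le_tsum _ fun q _ => hh0 q) (Nat.cast_nonneg _)
  · filter_upwards [hfin.compl_mem_cofinite] with P hP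
    have hq1 : (1 : ℝ) ≤ p P := by exact_mod_cast (hp P).one_lt.le
    rw [Real.norm_of_nonneg (by positivity), hN P, Nat.cast_pow, ← Real.rpow_natCast_mul (Nat.cast_nonneg _)]
    rcases (hf P).eq_or_lt with h1 | h1
    · refine le_add_of_le_of_nonneg ?_ (by positivity)
      have hmemG : p P ∈ Good₁ L a := ⟨hp P, P, by rw [hN P, ← h1, pow_one], hP⟩
      rw [Set.indicator_of_mem hmemG, ← h1, Nat.cast_one, one_mul]
      exact Real.rpow_le_rpow_of_exponent_le hq1 (by linarith)
    · refine le_add_of_nonneg_of_le (Set.indicator_nonneg (fun _ _ => by positivity) _) ?_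
      refine Real.rpow_le_rpow_of_exponent_le hq1 ?_
      have : (2 : ℝ) ≤ f P := by exact_mod_cast h1
      linarith

/-- Finitely many algebraic numbers have simultaneous images in `𝔽_p` for a set of primes `p` over
which `∑ p^{-τ}` diverges, `τ ≤ 1`. -/
theorem exists_primes_hom {Ω : Type u} [Field Ω] [CharZero Ω] [Algebra (ULift.{u} ℤ) Ω] (T : Finset Ω)
    (hT : ∀ z ∈ T, IsAlgebraic (ULift.{u} ℤ) z) :
    ∃ G : Set ℕ, (∀ p ∈ G, p.Prime) ∧
      (∀ p ∈ G, Nonempty (Algebra.adjoin (ULift.{u} ℤ) (T : Set Ω) →+* ZMod p)) ∧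
      ∀ τ : ℝ, τ ≤ 1 → ¬ Summable (G.indicator fun p : ℕ => (p : ℝ) ^ (-τ)) := by
  classical
  have hZ : ∀ r : ULift.{u} ℤ, algebraMap (ULift.{u} ℤ) Ω r = (r.down : Ω) := fun r =>
    RingHom.congr_fun (RingHom.ext_int ((algebraMap (ULift.{u} ℤ) Ω).comp
      (ULift.ringEquiv (R := ℤ)).symm.toRingHom) (Int.castRingHom Ω)) r.down
  have hTZ : ∀ z ∈ T, IsAlgebraic ℤ z := fun z hz => by
    have := (hT z hz).ringHom_of_comp_eq (ULift.ringEquiv (R := ℤ)).toRingHom (RingHom.id Ω)
      (ULift.ringEquiv (R := ℤ)).injective (RingHom.ext fun r => (hZ r).symm)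
    exact this
  let L := IntermediateField.adjoin ℚ (T : Set Ω)
  haveI : FiniteDimensional ℚ L := IntermediateField.finiteDimensional_adjoin fun z hz =>
    ((hTZ z hz).extendScalars (R := ℤ) (S := ℚ) Int.cast_injective).isIntegral
  haveI : NumberField L := { }
  let ι : 𝓞 L →+* Ω := (algebraMap L Ω).comp (algebraMap (𝓞 L) L)
  have hι : Function.Injective ι := (algebraMap L Ω).injective.comp RingOfIntegers.coe_injective
  choose! b hb0 hbint using fun z (hz : z ∈ T) => (hTZ z hz).exists_integral_multiple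
  set a : ℤ := ∏ z ∈ T, b z
  have ha : a ≠ 0 := Finset.prod_ne_zero_iff.2 fun z hz => hb0 z hz
  refine ⟨Good₁ L (a : 𝓞 L), fun p hp => hp.1, ?_, fun τ hτ => not_summable_good L (by exact_mod_cast ha) hτ⟩
  rintro p ⟨hp, P, hPp, haP⟩
  haveI := Fact.mk hp
  let E : Subalgebra (ULift.{u} ℤ) Ω :=
    { ι.range.toSubsemiring with algebraMap_mem' := fun r => ⟨(r.down : 𝓞 L), by rw [hZ, map_intCast]⟩ }
  have haE : (a : Ω) ∈ E := ⟨(a : 𝓞 L), map_intCast ι a⟩
  have hint : ∀ z : Ω, z ∈ L → IsIntegral ℤ z → z ∈ E := fun z hzL hz => by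
    have hz' : IsIntegral ℤ (⟨z, hzL⟩ : L) :=
      (isIntegral_algebraMap_iff (algebraMap L Ω).injective).1 hz
    exact ⟨⟨⟨z, hzL⟩, hz'⟩, rfl⟩
  have hT' : Algebra.adjoin (ULift.{u} ℤ) (T : Set Ω) ≤ Loc E haE := Algebra.adjoin_le fun z hz => by
    refine ⟨1, ?_⟩
    rw [pow_one, show (a : Ω) = (b z : Ω) * ((∏ y ∈ T.erase z, b y : ℤ) : Ω) by
      rw [← Int.cast_mul, Finset.mul_prod_erase T b hz], ← mul_assoc]
    refine mul_mem (hint _ (mul_mem (IntermediateField.subset_adjoin ℚ _ hz) (intCast_mem L _)) ?_)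
      ⟨((∏ y ∈ T.erase z, b y : ℤ) : 𝓞 L), map_intCast ι _⟩
    have := hbint z hz
    rwa [zsmul_eq_mul, mul_comm] at this
  haveI : P.1.IsMaximal := P.2.1.isMaximal P.2.2
  letI := Ideal.Quotient.field P.1
  have hcard : Nat.card (𝓞 L ⧸ P.1) = p := by
    rw [← hPp, Ideal.absNorm_apply, Submodule.cardQuot_apply]
  haveI : Finite (𝓞 L ⧸ P.1) := Nat.finite_of_card_ne_zero (hcard ▸ hp.ne_zero)
  letI := Fintype.ofFinite (𝓞 L ⧸ P.1)
  let π : 𝓞 L →+* ZMod p := (ZMod.ringEquivOfPrime (𝓞 L ⧸ P.1) hp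
    (Nat.card_eq_fintype_card.symm.trans hcard)).symm.toRingHom.comp (Ideal.Quotient.mk P.1)
  have he : ∀ z : E, ∃ w : 𝓞 L, ι w = z := fun z => z.2
  choose pre hpre using he
  letI algU : Algebra (ULift.{u} ℤ) (ULift.{u} (ZMod p)) :=
    ((Int.castRingHom _).comp (ULift.ringEquiv (R := ℤ)).toRingHom).toAlgebra
  let ψ : E →ₐ[ULift.{u} ℤ] ULift.{u} (ZMod p) :=
    { toFun := fun z => ULift.up (π (pre z))
      map_one' := by rw [show pre 1 = 1 from hι (by rw [hpre, map_one]; rfl), map_one]; rfl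
      map_zero' := by rw [show pre 0 = 0 from hι (by rw [hpre, map_zero]; rfl), map_zero]; rfl
      map_mul' := fun x y => by
        rw [show pre (x * y) = pre x * pre y from hι (by rw [hpre, map_mul, hpre, hpre]; rfl), map_mul]; rfl
      map_add' := fun x y => by
        rw [show pre (x + y) = pre x + pre y from hι (by rw [hpre, map_add, hpre, hpre]; rfl), map_add]; rfl
      commutes' := fun r => by
        rw [show pre (algebraMap _ E r) = (r.down : 𝓞 L) from hι (by rw [hpre, map_intCast]; exact hZ r),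
          map_intCast]
        rfl }
  obtain ⟨θ, -⟩ := exists_extend haE ψ (by
    intro h0
    have h1 : π (pre ⟨(a : Ω), haE⟩) = 0 := congrArg ULift.down h0
    rw [show pre ⟨(a : Ω), haE⟩ = (a : 𝓞 L) from hι (by rw [hpre, map_intCast])] at h1
    simp only [π, RingHom.comp_apply] at h1
    exact haP (Ideal.Quotient.eq_zero_iff_mem.1 ((map_eq_zero_iff _ (RingEquiv.injective _)).1 h1)))
  exact ⟨(ULift.ringEquiv.toRingHom).comp (θ.comp (Subalgebra.inclusion hT')).toRingHom⟩

end Groth.Agent.PointLower
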