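import Groth.Agent.PointLower.Step
import Groth.Agent.PointLower.Primes
import Groth.Agent.ZetaEuler.Closed
import Groth.Agent.DimFormula.Ineq

/-!
# The zeta series of an arithmetic scheme of dimension `r` diverges for `σ < r`
-/

set_option autoImplicit false
set_option maxSynthPendingDepth 3

universe u

noncomputable section

open AlgebraicGeometry CategoryTheory Groth.Agent.ZetaEuler

namespace Groth.Agent.PointLower

variable {X : Scheme.{u}} (f : X ⟶ Spec (CommRingCat.of (ULift.{u} ℤ))) [LocallyOfFiniteType f] [QuasiCompact f]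

include f in
theorem jacobsonSpace : JacobsonSpace X := by
  haveI := Groth.Agent.MultT.isJacobsonRing_int
  haveI : IsJacobsonRing (ULift.{u} ℤ) := isJacobsonRing_of_surjective
    ⟨(ULift.ringEquiv (R := ℤ)).symm.toRingHom, (ULift.ringEquiv (R := ℤ)).symm.surjective⟩
  exact LocallyOfFiniteType.jacobsonSpace f

include f in
/-- An affine chart of an integral closed subscheme of full dimension. -/
theorem exists_domain (r : ℕ) (hr : topologicalKrullDim X = r) :
    ∃ (B : Type u) (_ : CommRing B) (j : Spec (CommRingCat.of B) ⟶ X), IsImmersion j ∧ IsDomain B ∧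
      Algebra.FiniteType ℤ B ∧ ringKrullDim B = r := by
  classical
  obtain ⟨l, hl⟩ := Order.le_krullDim_iff.1 hr.ge
  obtain ⟨x, hx⟩ := l.head.isIrreducible.nonempty
  obtain ⟨U, hU, hxU, -⟩ := exists_isAffineOpen_mem_and_subset (U := ⊤) (x := x) trivial
  have hemb : Topology.IsOpenEmbedding hU.fromSpec := hU.fromSpec.isOpenEmbedding
  have hmeet : ∀ i, ((l i : Set X) ∩ Set.range hU.fromSpec).Nonempty := fun i => by
    refine ⟨x, ?_, by rw [hU.range_fromSpec]; exact hxU⟩
    exact SetLike.coe_subset_coe.2 (l.monotone (Fin.zero_le i)) hx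
  let L' : LTSeries (TopologicalSpace.IrreducibleCloseds (PrimeSpectrum Γ(X, U))) :=
    { length := l.length
      toFun := fun i => ⟨hU.fromSpec ⁻¹' (l i : Set X), (l i).isIrreducible.preimage hemb (hmeet i),
        (l i).isClosed.preimage hU.fromSpec.continuous⟩
      step := fun i => by
        refine lt_of_le_of_ne (Set.preimage_mono (SetLike.coe_subset_coe.2 (show l i.castSucc < l i.succ from l.step i).le)) fun he => ?_
        have he' : hU.fromSpec ⁻¹' (l i.castSucc : Set X) = hU.fromSpec ⁻¹' (l i.succ : Set X) :=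
          he
        refine not_le_of_gt (show l i.castSucc < l i.succ from l.step i) (SetLike.coe_subset_coe.1 ?_)
        refine (subset_closure_inter_of_isPreirreducible_of_isOpen (l i.succ).isIrreducible.2
          hemb.isOpen_range (hmeet i.succ)).trans (closure_minimal ?_ (l i.castSucc).isClosed)
        rintro _ ⟨hz, y, rfl⟩
        exact (Set.ext_iff.1 he' y).2 hz }
  have hge : (r : WithBot ℕ∞) ≤ ringKrullDim Γ(X, U) := by
    rw [← PrimeSpectrum.topologicalKrullDim_eq_ringKrullDim]
    exact Order.le_krullDim_iff.2 ⟨L', hl⟩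
  have hle : ringKrullDim Γ(X, U) ≤ r := by
    rw [← PrimeSpectrum.topologicalKrullDim_eq_ringKrullDim]
    exact le_trans hemb.isInducing.topologicalKrullDim_le hr.le
  obtain ⟨q, hq⟩ := Order.le_krullDim_iff.1 hge
  set I := q.head.asIdeal
  let mk : Γ(X, U) ⟶ CommRingCat.of (Γ(X, U) ⧸ I) := CommRingCat.ofHom (Ideal.Quotient.mk I)
  haveI : IsClosedImmersion (Spec.map mk) := IsClosedImmersion.spec_of_surjective mk Ideal.Quotient.mk_surjective
  refine ⟨Γ(X, U) ⧸ I, inferInstance, Spec.map mk ≫ hU.fromSpec, inferInstance,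
    Ideal.Quotient.isDomain I, ?_, le_antisymm ((ringKrullDim_quotient_le I).trans hle) ?_⟩
  · have h := f.finiteType_appLE (U := ⊤) (isAffineOpen_top _) hU (by simp)
    let e₁ : ℤ →+* Γ(Spec (CommRingCat.of (ULift.{u} ℤ)), ⊤) :=
      (Scheme.ΓSpecIso (CommRingCat.of (ULift.{u} ℤ))).inv.hom.comp (ULift.ringEquiv (R := ℤ)).symm.toRingHom
    have he : Function.Surjective e₁ :=
      ((Scheme.ΓSpecIso (CommRingCat.of (ULift.{u} ℤ))).symm.commRingCatIsoToRingEquiv.surjective).comp
        (ULift.ringEquiv (R := ℤ)).symm.surjective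
    have h2 := h.comp (RingHom.FiniteType.of_surjective e₁ he)
    rw [show (f.appLE ⊤ U (by simp)).hom.comp e₁ = algebraMap ℤ Γ(X, U) from RingHom.ext_int _ _] at h2
    haveI := RingHom.finiteType_algebraMap.mp h2
    exact Algebra.FiniteType.of_surjective (Ideal.Quotient.mk I).toIntAlgHom Ideal.Quotient.mk_surjective
  · rw [ringKrullDim_quotient]
    have hc : (Order.coheight q.head : WithBot ℕ∞) ≤ Order.krullDim (PrimeSpectrum.zeroLocus (R := Γ(X, U)) I) := by
      rw [Order.coheight_eq_krullDim_Ici]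
      exact le_of_eq (by congr)
    refine le_trans ?_ hc
    rw [← hq]
    exact WithBot.coe_le_coe.2 Order.length_le_coheight_head

include f in
/-- Points of an immersed affine scheme, counted by closed points. -/
theorem card_hom_le {B : Type u} [CommRing B] (j : Spec (CommRingCat.of B) ⟶ X) [IsImmersion j]
    {F : Type u} [Field F] [Finite F] {p m : ℕ} (hp : p.Prime) (hF : Nat.card F = p ^ m)
    [Finite {x : Cl X // ∃ e, 1 ≤ e ∧ e ≤ m ∧ nm x = p ^ e}] :
    Nat.card (B →+* F) ≤ m * Nat.card {x : Cl X // ∃ e, 1 ≤ e ∧ e ≤ m ∧ nm x = p ^ e} := by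
  classical
  haveI := jacobsonSpace f
  haveI := Fact.mk hp
  letI := Fintype.ofFinite F
  haveI : CharP F p := charP_of_card_eq_prime_pow (f := m) (Nat.card_eq_fintype_card (α := F) ▸ hF)
  let S := {x : Cl X // ∃ e, 1 ≤ e ∧ e ≤ m ∧ nm x = p ^ e}
  let φ : (B →+* F) → (Spec (CommRingCat.of F) ⟶ X) := fun χ => Spec.map (CommRingCat.ofHom χ) ≫ j
  let e := Scheme.SpecToEquivOfField F X
  have hcl : ∀ χ, IsClosed ({(e (φ χ)).1} : Set X) := by
    intro χ
    apply isClosed_singleton_of_isLocallyClosed_singleton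
    set y : Spec (CommRingCat.of B) := (Spec.map (CommRingCat.ofHom χ)) (IsLocalRing.closedPoint F) with hy
    have hy' : IsClosed ({y} : Set (Spec (CommRingCat.of B))) := by
      refine (PrimeSpectrum.isClosed_singleton_iff_isMaximal (R := B) y).2 ?_
      have hker : y.asIdeal = RingHom.ker χ := by
        show Ideal.comap χ (IsLocalRing.closedPoint F).asIdeal = _
        rw [show (IsLocalRing.closedPoint F).asIdeal = (⊥ : Ideal F) from Ideal.eq_bot_of_prime _]
        rfl
      rw [hker]
      haveI := RingHom.ker_isPrime χ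
      haveI : Finite (B ⧸ RingHom.ker χ) := Finite.of_injective _ (RingHom.kerLift_injective χ)
      exact Ideal.Quotient.maximal_of_isField _ (Finite.isField_of_domain _)
    have h := hy'.isLocallyClosed.image j.isEmbedding.isInducing j.isLocallyClosed_range
    rw [Set.image_singleton] at h
    exact h
  have hnm : ∀ x : X, ∀ h : X.residueField x ⟶ CommRingCat.of F, IsClosed ({x} : Set X) →
      ∃ e, 1 ≤ e ∧ e ≤ m ∧ Nat.card (X.residueField x) = p ^ e ∧ CharP (X.residueField x) p := by
    intro x h hx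
    haveI := ZetaEuler.finite_residueField f hx
    haveI : CharP (X.residueField x) p := (RingHom.charP_iff h.hom h.hom.injective p).2 inferInstance
    letI := Fintype.ofFinite (X.residueField x)
    obtain ⟨n, hn, hn'⟩ := FiniteField.card (X.residueField x) p
    refine ⟨n, n.pos, ?_, Nat.card_eq_fintype_card.trans hn', inferInstance⟩
    have h1 := Nat.card_le_card_of_injective h.hom h.hom.injective
    replace h1 : Nat.card (X.residueField x) ≤ Nat.card F := h1
    rw [Nat.card_eq_fintype_card, hn'] at h1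
    exact (Nat.pow_le_pow_iff_right hp.one_lt).1 (hF ▸ h1)
  have hfibre : ∀ s : S, Finite (X.residueField s.1.1 →+* F) ∧ Nat.card (X.residueField s.1.1 →+* F) ≤ m := by
    intro s
    haveI := ZetaEuler.finite_residueField f s.1.2
    haveI : Finite (X.residueField s.1.1 →+* F) := Finite.of_injective _ DFunLike.coe_injective
    refine ⟨inferInstance, ?_⟩
    rcases isEmpty_or_nonempty (X.residueField s.1.1 →+* F) with he | ⟨⟨h₀⟩⟩
    · simp
    obtain ⟨n, -, hnm', hcard, hchar⟩ := hnm s.1.1 (CommRingCat.ofHom h₀) s.1.2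
    letI := ZMod.algebra (X.residueField s.1.1) p
    letI := ZMod.algebra F p
    let g : (X.residueField s.1.1 →+* F) → (X.residueField s.1.1 →ₐ[ZMod p] F) := fun h =>
      { h with commutes' := fun r => RingHom.congr_fun (Subsingleton.elim (h.comp (algebraMap _ _)) (algebraMap _ _)) r }
    have hg : Function.Injective g := fun a b hab => RingHom.ext fun z => AlgHom.congr_fun hab z
    haveI : Finite (X.residueField s.1.1 →ₐ[ZMod p] F) := Finite.of_injective _ DFunLike.coe_injective
    refine (Nat.card_le_card_of_injective g hg).trans ((card_algHom_le_finrank (ZMod p) _ F).trans ?_)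
    have h2 := Module.natCard_eq_pow_finrank (K := ZMod p) (V := X.residueField s.1.1)
    rw [Nat.card_zmod, hcard] at h2
    rwa [← Nat.pow_right_injective hp.two_le h2]
  haveI : ∀ s : S, Finite (X.residueField s.1.1 →+* F) := fun s => (hfibre s).1
  let emb : (B →+* F) → Σ s : S, (X.residueField s.1.1 →+* F) := fun χ =>
    ⟨⟨⟨(e (φ χ)).1, hcl χ⟩, by
      obtain ⟨n, h1, h2, h3, -⟩ := hnm _ (e (φ χ)).2 (hcl χ)
      exact ⟨n, h1, h2, h3⟩⟩, (e (φ χ)).2.hom⟩
  have hinj : Function.Injective emb := fun χ χ' h => by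
    have h1 := congrArg (fun t : Σ s : S, (X.residueField s.1.1 →+* F) =>
      (⟨t.1.1.1, CommRingCat.ofHom t.2⟩ : Σ x, X.residueField x ⟶ CommRingCat.of F)) h
    exact congrArg CommRingCat.Hom.hom (Spec.map_injective ((cancel_mono j).1 (e.injective h1)))
  refine (Nat.card_le_card_of_injective emb hinj).trans ?_
  letI := Fintype.ofFinite S
  rw [Nat.card_sigma]
  refine (Finset.sum_le_card_nsmul _ _ m fun s _ => (hfibre s).2).trans (le_of_eq ?_)
  rw [Finset.card_univ, smul_eq_mul, mul_comm, ← Nat.card_eq_fintype_card]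

variable (R : Type u) [CommRing R] [IsDomain R] (B : Type u) [CommRing B] [IsDomain B] [Algebra R B]

/-- Point counts of an affine domain of transcendence degree `d`, from below. -/
theorem exists_count [FaithfulSMul R B] [Algebra.FiniteType R B] [Algebra.FiniteType ℤ B] (d : ℕ) (htr : Algebra.trdeg R B = d) :
    ∃ T : Finset (AlgebraicClosure (FractionRing B)),
      (∀ z ∈ T, IsAlgebraic R z) ∧ ∃ c : ℝ, 0 < c ∧ ∃ N : ℕ,
        ∀ (F : Type u) [Field F] [Finite F] [Algebra R F],
          Nonempty (Algebra.adjoin R (T : Set (AlgebraicClosure (FractionRing B))) →ₐ[R] F) → N ≤ Nat.card F →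
            c * (Nat.card F : ℝ) ^ d ≤ Nat.card (B →+* F) := by
  classical
  let Ω := AlgebraicClosure (FractionRing B)
  haveI : FaithfulSMul B Ω := (faithfulSMul_iff_algebraMap_injective B Ω).2 (by
    rw [IsScalarTower.algebraMap_eq B (FractionRing B) Ω]
    exact (algebraMap (FractionRing B) Ω).injective.comp (IsFractionRing.injective B _))
  let ι : B →ₐ[R] Ω := IsScalarTower.toAlgHom R B Ω
  have hι : Function.Injective ι := FaithfulSMul.algebraMap_injective B Ω
  haveI : FaithfulSMul R Ω := (faithfulSMul_iff_algebraMap_injective R Ω).2 (by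
    rw [IsScalarTower.algebraMap_eq R B Ω]
    exact hι.comp (FaithfulSMul.algebraMap_injective R B))
  obtain ⟨s, hs⟩ := exists_isTranscendenceBasis R B
  have hcard : Cardinal.mk s = (d : Cardinal.{u}) := hs.cardinalMk_eq_trdeg.trans htr
  obtain ⟨e⟩ := Cardinal.eq.1 (hcard.trans (by simp) :
    Cardinal.mk s = Cardinal.mk (ULift.{u} (Fin d)))
  let t : Fin d → B := fun i => (e.symm ⟨i⟩ : B)
  have hrange : Set.range t = s := by
    ext z
    exact ⟨by rintro ⟨i, rfl⟩; exact (e.symm ⟨i⟩).2, fun hz => ⟨(e ⟨z, hz⟩).down, congrArg Subtype.val (e.symm_apply_apply ⟨z, hz⟩)⟩⟩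
  have hti : AlgebraicIndependent R t := hs.1.comp (fun i => e.symm ⟨i⟩)
    (e.symm.injective.comp ULift.up_injective)
  haveI halg : Algebra.IsAlgebraic (Algebra.adjoin R (s : Set B)) B := by
    have := hs.isAlgebraic
    rwa [Subtype.range_coe] at this
  obtain ⟨gen, hgen⟩ := (inferInstance : Algebra.FiniteType R B).out
  let S : Finset Ω := (gen.image ι) ∪ Finset.image (ι ∘ t) Finset.univ
  have hS : Algebra.adjoin R (S : Set Ω) = ι.range := by
    refine le_antisymm (Algebra.adjoin_le fun z hz => ?_) ?_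
    · simp only [S, Finset.coe_union, Finset.coe_image, Set.mem_union, Set.mem_image] at hz
      rcases hz with ⟨b, -, rfl⟩ | ⟨i, -, rfl⟩
      · exact ⟨b, rfl⟩
      · exact ⟨t i, rfl⟩
    · rw [← Algebra.map_top, ← hgen, AlgHom.map_adjoin]
      exact Algebra.adjoin_mono (by simp [S])
  have halgS : ∀ z ∈ S, IsAlgebraic (Algebra.adjoin R (Set.range (ι ∘ t))) z := by
    intro z hz
    obtain ⟨b, rfl⟩ : ∃ b, ι b = z := by
      have : z ∈ ι.range := hS ▸ Algebra.subset_adjoin hz
      exact this
    have hmap : (Algebra.adjoin R (s : Set B)).map ι = Algebra.adjoin R (Set.range (ι ∘ t)) := by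
      rw [AlgHom.map_adjoin, ← hrange, ← Set.range_comp]
    exact (halg.isAlgebraic b).ringHom_of_comp_eq
      ((ι.comp (Algebra.adjoin R (s : Set B)).val).toRingHom.codRestrict
        (Algebra.adjoin R (Set.range (ι ∘ t))) fun a => hmap.le ⟨a.1, a.2, rfl⟩)
      ι.toRingHom (fun a a' h => Subtype.ext (hι (congrArg Subtype.val h))) (RingHom.ext fun _ => rfl)
  obtain ⟨T, hT, c, hc, N, hbound⟩ := exists_lower_bound d (ι ∘ t) S (hti.map' hι)
    (by rintro _ ⟨i, rfl⟩; exact Finset.mem_union_right _ (Finset.mem_image_of_mem _ (Finset.mem_univ i))) halgS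
  refine ⟨T, hT, c, hc, N, fun F _ _ _ hne hq => (hbound F hne hq).trans (Nat.cast_le.2 ?_)⟩
  let g : (Algebra.adjoin R (S : Set Ω) →ₐ[R] F) → (B →ₐ[R] F) := fun χ =>
    χ.comp (ι.codRestrict _ fun b => hS ▸ ⟨b, rfl⟩)
  have hg : Function.Injective g := fun χ χ' h => by
    apply AlgHom.ext
    rintro ⟨z, hz⟩
    obtain ⟨b, rfl⟩ : ∃ b, ι b = z := by
      have : z ∈ ι.range := hS ▸ hz
      exact this
    exact AlgHom.congr_fun h b
  haveI : Finite (B →+* F) := by
    obtain ⟨genℤ, hgenℤ⟩ := (inferInstance : Algebra.FiniteType ℤ B).out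
    exact Groth.Agent.PointCount.finite_hom genℤ (Groth.Agent.PointCount.closure_of_adjoin _ hgenℤ) F
  exact Nat.card_le_card_of_injective (fun χ => (g χ).toRingHom) fun a b h => hg (AlgHom.coe_ringHom_injective h)

end Groth.Agent.PointLower
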