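import Groth.Agent.FunFld.RiemannHyp
import Groth.Agent.FunFld.Riemann
import Groth.Agent.FunFld.Curve
import Mathlib

/-!
# Rational points of absolutely irreducible plane curves over finite fields
-/

set_option autoImplicit false
set_option maxSynthPendingDepth 3

universe u

open Polynomial IntermediateField WithZero

namespace Groth.Agent.PointLower

open Groth.Agent.FunFld

variable {F : Type u} [Field F]

section model

variable {K : Type u} [Field K] [Algebra F K] {x y : K}

theorem val_aeval_sub (P : _root_.FunFld.Place F K) {z : K} {a : F} (h : P.1 (z - algebraMap F K a) < 1)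
    (p : F[X]) : P.1 (aeval z p - algebraMap F K (p.eval a)) < 1 := by
  obtain ⟨q, hq⟩ := X_sub_C_dvd_sub_C_eval (p := p) (a := a)
  have hz : P.1 z ≤ 1 := by
    calc P.1 z = P.1 ((z - algebraMap F K a) + algebraMap F K a) := by rw [sub_add_cancel]
      _ ≤ 1 := (P.1.map_add _ _).trans (max_le h.le (P.2.1 a))
  have := congrArg (aeval z) hq
  simp only [map_sub, map_mul, aeval_X, aeval_C] at this
  rw [this, map_mul]
  exact mul_lt_one_of_lt_of_le h (val_aeval_le P hz q)

/-- At a rational place the coordinates reduce to a rational point of the curve. -/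
theorem exists_point (g : F[X][X]) (hy : eval₂ (aeval x).toRingHom y g = 0) (P : _root_.FunFld.Place F K)
    (hP : P.deg = 1) (hx : P.1 x ≤ 1) (hyle : P.1 y ≤ 1) :
    ∃ a b : F, P.1 (x - algebraMap F K a) < 1 ∧ (g.map (evalRingHom a)).IsRoot b := by
  have hconst : ∀ {z : K}, P.1 z ≤ 1 → ∃ c : F, P.1 (z - algebraMap F K c) < 1 := by
    intro z hz
    have hne : resL P ⟨(1 : K), by show P.1 1 ≤ 1; simp⟩ ≠ 0 := fun e => by
      rw [resL_eq_zero] at e
      simp at e
    obtain ⟨c, hc⟩ := (finrank_eq_one_iff_of_nonzero' _ hne).1 hP (resL P ⟨z, hz⟩)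
    refine ⟨c, ?_⟩
    rw [← map_smul, ← sub_eq_zero, ← map_sub, resL_eq_zero] at hc
    rw [Valuation.map_sub_swap]
    simpa [Algebra.smul_def] using hc
  obtain ⟨a, ha⟩ := hconst hx
  obtain ⟨b, hb⟩ := hconst hyle
  refine ⟨a, b, ha, ?_⟩
  set ga := g.map (evalRingHom a) with hga
  have h1 := val_aeval_sub P hb ga
  have h2 : P.1 (aeval y ga) < 1 := by
    have hs : aeval y ga = ∑ j ∈ Finset.range (g.natDegree + 1),
        (algebraMap F K ((g.coeff j).eval a) - aeval x (g.coeff j)) * y ^ j := by
      simp only [sub_mul, Finset.sum_sub_distrib]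
      have e : ∑ j ∈ Finset.range (g.natDegree + 1), aeval x (g.coeff j) * y ^ j = 0 := by
        rw [← hy, eval₂_eq_sum_range]
        rfl
      rw [e, sub_zero, aeval_eq_sum_range' (n := g.natDegree + 1)
        (Nat.lt_succ_of_le natDegree_map_le)]
      simp [hga, Algebra.smul_def]
    rw [hs]
    refine Valuation.map_sum_lt _ one_ne_zero fun j _ => ?_
    rw [map_mul, Valuation.map_sub_swap, map_pow]
    exact mul_lt_one_of_lt_of_le (val_aeval_sub P ha _) (pow_le_one' hyle _)
  have h3 : P.1 (algebraMap F K (ga.eval b)) < 1 := by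
    have h4 := (P.1.map_sub (aeval y ga) (aeval y ga - algebraMap F K (ga.eval b))).trans_lt (max_lt h2 h1)
    rwa [sub_sub_cancel] at h4
  by_contra hne
  rw [val_algebraMap P hne] at h3
  exact lt_irrefl _ h3

/-- The pole of a root of a monic equation is bounded by those of the parameter. -/
theorem val_root_le (g : F[X][X]) (hg : g.Monic) (hd : 0 < g.natDegree) {D : ℕ}
    (hD : ∀ j, (g.coeff j).natDegree ≤ D) (hy : eval₂ (aeval x).toRingHom y g = 0)
    (P : _root_.FunFld.Place F K) {m : ℤ} (hm : 0 ≤ m) (hx : P.1 x ≤ exp m) :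
    P.1 y ≤ exp ((D : ℤ) * m) := by
  by_contra hlt
  push Not at hlt
  have h1 : (1 : WithZero (Multiplicative ℤ)) ≤ P.1 y := by
    refine le_trans ?_ hlt.le
    rw [← exp_zero, exp_le_exp]
    positivity
  have hcoef : ∀ j, P.1 (aeval x (g.coeff j)) ≤ exp ((D : ℤ) * m) := fun j => by
    rw [aeval_eq_sum_range]
    refine Valuation.map_sum_le _ fun i hi => (val_smul_le P _ _).trans ?_
    rw [map_pow]
    refine (pow_le_pow_left' hx i).trans ?_
    rw [← exp_nsmul, nsmul_eq_mul, exp_le_exp]
    have : (i : ℤ) ≤ D := by exact_mod_cast (Nat.lt_succ_iff.1 (Finset.mem_range.1 hi)).trans (hD j)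
    nlinarith
  rw [eval₂_eq_sum_range, Finset.sum_range_succ, hg.coeff_natDegree, map_one, one_mul] at hy
  have hy0 : P.1 y ≠ 0 := fun e => by
    rw [e] at hlt
    exact not_lt_zero' hlt
  have key : P.1 (∑ i ∈ Finset.range g.natDegree, (aeval x).toRingHom (g.coeff i) * y ^ i) <
      P.1 (y ^ g.natDegree) := by
    refine Valuation.map_sum_lt _ (by rw [map_pow]; exact pow_ne_zero _ hy0) fun i hi => ?_
    rw [map_mul, map_pow, map_pow]
    calc P.1 (aeval x (g.coeff i)) * P.1 y ^ i ≤ exp ((D : ℤ) * m) * P.1 y ^ i :=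
          mul_le_mul' (hcoef i) le_rfl
      _ < P.1 y * P.1 y ^ i := mul_lt_mul_of_pos_right hlt (zero_lt_iff.2 (pow_ne_zero _ hy0))
      _ = P.1 y ^ (i + 1) := (pow_succ' _ _).symm
      _ ≤ P.1 y ^ g.natDegree := pow_le_pow_right' h1 (Finset.mem_range.1 hi)
  rw [eq_neg_of_add_eq_zero_left hy, Valuation.map_neg] at key
  exact lt_irrefl _ key

end model

section
variable [Finite F]

/-- Over a finite field an absolutely irreducible plane curve, monic in the second coordinate, has points
over at least `(q + 1 - 2 (D d² + 1) √q) / d - 1` abscissae. -/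
theorem card_abscissae (g : F[X][X]) (hg : g.Monic) {D : ℕ} (hD : ∀ j, (g.coeff j).natDegree ≤ D)
    (hirr : Irreducible (g.map (mapRingHom (algebraMap F (AlgebraicClosure F))))) :
    (Nat.card F : ℝ) + 1 - 2 * ((D * g.natDegree ^ 2 + 1 : ℕ) : ℝ) * Real.sqrt (Nat.card F : ℝ) ≤
      (g.natDegree * (Nat.card {a : F // ∃ b, (g.map (evalRingHom a)).IsRoot b} + 1) : ℕ) := by
  classical
  have hgi : Irreducible g := hg.irreducible_of_irreducible_map _ _ hirr
  set d := g.natDegree with hd
  have hd0 : 0 < d := by
    refine Nat.pos_of_ne_zero fun h => hgi.not_isUnit ?_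
    rw [hg.natDegree_eq_zero.1 h]
    exact isUnit_one
  set G := g.map (algebraMap F[X] (RatFunc F)) with hG
  have hGm : G.Monic := hg.map _
  have hGd : G.natDegree = d := hg.natDegree_map _
  haveI : Fact (Irreducible G) := ⟨(hg.irreducible_iff_irreducible_map_fraction_map).1 hgi⟩
  let K := AdjoinRoot G
  let x : K := algebraMap (RatFunc F) K RatFunc.X
  let y : K := AdjoinRoot.root G
  have hpx : ∀ p : F[X], algebraMap (RatFunc F) K (algebraMap F[X] (RatFunc F) p) = aeval x p := fun p => by
    rw [← RatFunc.aeval_X_left_eq_algebraMap, ← aeval_algebraMap_apply]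
  have hcomp : (algebraMap (RatFunc F) K).comp (algebraMap F[X] (RatFunc F)) = (aeval x).toRingHom :=
    RingHom.ext hpx
  have hy : eval₂ (aeval x).toRingHom y g = 0 := by
    rw [← hcomp, ← eval₂_map, AdjoinRoot.algebraMap_eq]
    exact AdjoinRoot.eval₂_root G
  have hxtr : Transcendental F x :=
    (transcendental_algebraMap_iff (algebraMap (RatFunc F) K).injective).2 RatFunc.transcendental_X
  -- finite over `F(x)`
  let ψ := IsScalarTower.toAlgHom F (RatFunc F) K
  have hrange : ψ.fieldRange = IntermediateField.adjoin F ({x} : Set K) := by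
    rw [AlgHom.fieldRange_eq_map, ← RatFunc.adjoin_X, IntermediateField.adjoin_map, Set.image_singleton]
    rfl
  let e : RatFunc F ≃+* IntermediateField.adjoin F ({x} : Set K) :=
    ((AlgEquiv.ofInjectiveField ψ).trans (IntermediateField.equivOfEq hrange)).toRingEquiv
  have hcompat : (algebraMap (IntermediateField.adjoin F ({x} : Set K)) K).comp e.toRingHom =
      (RingEquiv.refl K).toRingHom.comp (algebraMap (RatFunc F) K) := RingHom.ext fun _ => rfl
  haveI hfinK : Module.Finite (RatFunc F) K := (AdjoinRoot.powerBasis hGm.ne_zero).finite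
  have hfin : FiniteDimensional (IntermediateField.adjoin F ({x} : Set K)) K :=
    Module.Finite.of_equiv_equiv e (RingEquiv.refl K) hcompat
  have hrank : Module.finrank (IntermediateField.adjoin F ({x} : Set K)) K = d := by
    rw [← Algebra.finrank_eq_of_equiv_equiv e (RingEquiv.refl K) hcompat,
      (AdjoinRoot.powerBasis hGm.ne_zero).finrank, AdjoinRoot.powerBasis_dim, hGd]
  -- constants
  have hconst : ∀ c : K, IsAlgebraic F c → c ∈ Set.range (algebraMap F K) := by
    intro c hc
    let E := F⟮c⟯
    haveI : FiniteDimensional F E := IntermediateField.adjoin.finiteDimensional hc.isIntegral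
    let σ : E →ₐ[F] AlgebraicClosure F := IsAlgClosed.lift
    let fE : F[X] →+* E[X] := mapRingHom (algebraMap F E)
    let gE := g.map fE
    have hgEm : gE.Monic := hg.map _
    have hgEi : Irreducible gE := by
      refine hgEm.irreducible_of_irreducible_map (mapRingHom σ.toRingHom) _ ?_
      rwa [Polynomial.map_map, mapRingHom_comp,
        show σ.toRingHom.comp (algebraMap F E) = algebraMap F _ from σ.comp_algebraMap]
    letI algEX : Algebra E[X] K := (aeval (R := E) x).toRingHom.toAlgebra
    have halgE : ∀ p : E[X], algebraMap E[X] K p = aeval x p := fun _ => rfl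
    have hxE : Transcendental E x := hxtr.extendScalars E
    haveI : Module.IsTorsionFree E[X] K := by
      refine Module.isTorsionFree_iff_algebraMap_injective.2 ?_
      exact transcendental_iff_injective.1 hxE
    have hfE : ∀ p : F[X], algebraMap E[X] K (fE p) = aeval x p := fun p => by
      rw [halgE]
      exact aeval_map_algebraMap E x p
    have hcompE : (algebraMap E[X] K).comp fE = (aeval x).toRingHom := RingHom.ext hfE
    have hgEy : aeval y gE = 0 := by
      rw [aeval_def, eval₂_map, hcompE, hy]
    have hyint : IsIntegral E[X] y := ⟨gE, hgEm, hgEy⟩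
    have hmin : (minpoly E[X] y).natDegree = d := by
      rw [eq_of_monic_of_associated (minpoly.monic hyint) hgEm
        ((minpoly.irreducible hyint).associated_of_dvd hgEi (minpoly.isIntegrallyClosed_dvd hyint hgEy))]
      exact hg.natDegree_map _
    obtain ⟨p, hp⟩ := AdjoinRoot.mk_surjective (g := G) c
    set p₁ := p %ₘ G
    have hc₁ : AdjoinRoot.mk G p₁ = c := by
      rw [← hp, AdjoinRoot.mk_eq_mk]
      exact ⟨-(p /ₘ G), by linear_combination modByMonic_add_div p G⟩
    have hp₁ : p₁.natDegree < d := by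
      rw [← hGd]
      exact natDegree_modByMonic_lt p hGm fun h => by rw [h, natDegree_one] at hGd; omega
    obtain ⟨s, hs, hs'⟩ := IsLocalization.integerNormalization_spec (nonZeroDivisors F[X]) p₁
    set P0 := IsLocalization.integerNormalization (nonZeroDivisors F[X]) p₁
    have hP0 : P0.map (algebraMap F[X] (RatFunc F)) = C (algebraMap F[X] (RatFunc F) s) * p₁ := by
      rw [hs', Algebra.smul_def, Polynomial.algebraMap_apply]
    have hP0d : P0.natDegree < d := by
      rw [← natDegree_map_eq_of_injective (RatFunc.algebraMap_injective F) P0, hP0]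
      exact (natDegree_C_mul_le _ _).trans_lt hp₁
    have hP0y : eval₂ (aeval x).toRingHom y P0 = aeval x s * c := by
      rw [← hc₁, ← hcomp, ← eval₂_map, hP0, eval₂_mul, eval₂_C, hpx, AdjoinRoot.algebraMap_eq,
        ← AdjoinRoot.aeval_eq (f := G) p₁]
      rfl
    let cE : E := ⟨c, IntermediateField.mem_adjoin_simple_self F c⟩
    let Q : E[X][X] := P0.map fE - C (C cE * fE s)
    have hQy : aeval y Q = 0 := by
      show aeval y (_ - _) = 0
      rw [map_sub, aeval_def, eval₂_map, hcompE, hP0y, aeval_C, map_mul, hfE, halgE (C cE), aeval_C]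
      exact sub_eq_zero.2 (mul_comm _ _)
    have hQ : Q = 0 := by
      by_contra hne
      have h1 := natDegree_le_of_dvd (minpoly.isIntegrallyClosed_dvd hyint hQy) hne
      have h2 : Q.natDegree < d := by
        refine (natDegree_sub_le _ _).trans_lt (max_lt (natDegree_map_le.trans_lt hP0d) ?_)
        rwa [natDegree_C]
      omega
    have h0 := congrArg (fun r : E[X][X] => (r.coeff 0).coeff s.natDegree) hQ
    simp only [Q, coeff_sub, coeff_map, coeff_C_zero, coeff_C_mul, coeff_zero, fE, coe_mapRingHom,
      sub_eq_zero] at h0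
    have hlc : s.coeff s.natDegree ≠ 0 := leadingCoeff_ne_zero.2 (nonZeroDivisors.ne_zero hs)
    refine ⟨(P0.coeff 0).coeff s.natDegree / s.coeff s.natDegree, ?_⟩
    have h1 := congrArg (algebraMap E K) h0
    rw [map_mul, ← IsScalarTower.algebraMap_apply, ← IsScalarTower.algebraMap_apply] at h1
    rw [map_div₀, h1, mul_div_cancel_right₀ _ (by simpa using hlc)]
    rfl
  have hK : _root_.FunFld.IsFunctionField F K := ⟨⟨x, hxtr, hfin⟩, hconst⟩
  -- the pole divisor and the genus
  have hy0 : ∀ (P : _root_.FunFld.Place F K), P.1 y ≤ exp ((D : ℤ) * poles F x P) := fun P => by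
    refine val_root_le g hg hd0 hD hy P (by rw [poles_apply hK]; exact le_max_right _ _) ?_
    rw [le_exp_iff P (fun e : x = 0 => hxtr (e ▸ isAlgebraic_zero)), poles_apply hK]
    omega
  have hx1 : ∀ (P : _root_.FunFld.Place F K), P.1 x ≤ exp (poles F x P) := fun P => by
    rw [le_exp_iff P (fun e : x = 0 => hxtr (e ▸ isAlgebraic_zero)), poles_apply hK]
    omega
  obtain ⟨N, hN⟩ := exists_deg_bound hK
  set l := N.toNat
  set m := D * d + l with hm
  have hli : LinearIndependent F fun ij : Fin (l + 1) × Fin d => x ^ (ij.1 : ℕ) * y ^ (ij.2 : ℕ) := by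
    let pb := AdjoinRoot.powerBasis hGm.ne_zero
    have hb : LinearIndependent (RatFunc F) fun j : Fin d => y ^ (j : ℕ) := by
      have := pb.basis.linearIndependent.comp (Fin.cast (by rw [AdjoinRoot.powerBasis_dim, hGd]))
        (Fin.cast_injective _)
      convert! this using 1
      funext j
      simp only [Function.comp_apply, pb, PowerBasis.coe_basis, AdjoinRoot.powerBasis_gen, Fin.val_cast]
      rfl
    have ha : LinearIndependent F fun i : Fin (l + 1) => (RatFunc.X : RatFunc F) ^ (i : ℕ) := by
      have h := (Polynomial.basisMonomials F).linearIndependent.map'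
        ((IsScalarTower.toAlgHom F F[X] (RatFunc F)).toLinearMap)
        (LinearMap.ker_eq_bot.2 (RatFunc.algebraMap_injective F))
      have h' := h.comp (fun i : Fin (l + 1) => (i : ℕ)) Fin.val_injective
      convert! h' using 1
      funext i
      simp only [Function.comp_apply, Polynomial.coe_basisMonomials, AlgHom.toLinearMap_apply,
        IsScalarTower.coe_toAlgHom', monomial_one_right_eq_X_pow, map_pow, RatFunc.algebraMap_X]
    have := linearIndependent_smul ha hb
    simpa [Algebra.smul_def, x] using this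
  have hell := card_le_ell hK hli (D := m • poles F x) fun ij P => by
    rw [map_mul, map_pow, map_pow, Finsupp.smul_apply, nsmul_eq_mul]
    refine (mul_le_mul' (pow_le_pow_left' (hx1 P) _) (pow_le_pow_left' (hy0 P) _)).trans ?_
    rw [← exp_nsmul, ← exp_nsmul, ← exp_add, exp_le_exp, nsmul_eq_mul, nsmul_eq_mul]
    have hp : 0 ≤ poles F x P := by rw [poles_apply hK]; exact le_max_right _ _
    have hi : ((ij.1 : ℕ) : ℤ) ≤ l := by exact_mod_cast Nat.lt_succ_iff.1 ij.1.2
    have hj : ((ij.2 : ℕ) : ℤ) ≤ d := by exact_mod_cast ij.2.2.le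
    rw [hm]
    push_cast
    nlinarith [mul_le_mul_of_nonneg_right hi hp, mul_le_mul_of_nonneg_right hj
      (mul_nonneg (Nat.cast_nonneg' D : (0 : ℤ) ≤ D) hp)]
  rw [Fintype.card_prod, Fintype.card_fin, Fintype.card_fin] at hell
  have hdeg : (m • poles F x).deg = (m : ℤ) * d := by
    rw [deg_nsmul, deg_poles hK hxtr, hrank]
  have hgen : _root_.FunFld.genus F K ≤ D * d ^ 2 + 1 := by
    have hlN : N ≤ (m : ℤ) * d := by
      refine le_trans (Int.self_le_toNat N) ?_
      have : l ≤ m * d := le_trans (Nat.le_add_left l (D * d)) (Nat.le_mul_of_pos_right _ hd0)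
      exact_mod_cast this
    have h := hN (m • poles F x) (hdeg ▸ hlN)
    rw [delta, hdeg] at h
    have hell' : ((l : ℤ) + 1) * d ≤ _root_.FunFld.ell (m • poles F x) := by exact_mod_cast hell
    have : (_root_.FunFld.genus F K : ℤ) ≤ ((D * d ^ 2 + 1 : ℕ) : ℤ) := by
      rw [← h, hm]
      push_cast
      nlinarith
    exact_mod_cast this
  -- rational places
  set A := {a : F // ∃ b, (g.map (evalRingHom a)).IsRoot b}
  have hpt : ∀ P : {P : _root_.FunFld.Place F K // P.deg = 1}, P.1.1 x ≤ 1 →
      ∃ a : A, P.1.1 (x - algebraMap F K a.1) < 1 := fun P hP => by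
    have hy1 : P.1.1 y ≤ 1 := by
      have := val_root_le g hg hd0 hD hy P.1 le_rfl (by rwa [exp_zero])
      rwa [mul_zero, exp_zero] at this
    obtain ⟨a, b, ha, hb⟩ := exists_point g hy P.1 P.2 hP hy1
    exact ⟨⟨a, b, hb⟩, ha⟩
  let f : {P : _root_.FunFld.Place F K // P.deg = 1} → Option A := fun P =>
    if h : P.1.1 x ≤ 1 then some (hpt P h).choose else none
  let ξ : Option A → K := fun o => o.elim x⁻¹ fun a => x - algebraMap F K a.1
  have hξ : ∀ P : {P : _root_.FunFld.Place F K // P.deg = 1}, P.1.1 (ξ (f P)) < 1 := fun P => by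
    by_cases h : P.1.1 x ≤ 1
    · simp only [f, h, ↓reduceDIte, ξ, Option.elim_some]
      exact (hpt P h).choose_spec
    · simp only [f, h, ↓reduceDIte, ξ, Option.elim_none, map_inv₀]
      exact inv_lt_one_of_one_lt₀ (not_le.1 h)
  have hξtr : ∀ o, Transcendental F (ξ o) ∧
      Module.finrank (IntermediateField.adjoin F ({ξ o} : Set K)) K = d := by
    rintro (_ | a)
    · exact ⟨fun h => hxtr (inv_inv x ▸ h.inv), (finrank_adjoin_inv hK x).trans hrank⟩
    · refine ⟨fun h => hxtr ?_, ?_⟩
      · exact sub_add_cancel x (algebraMap F K a.1) ▸ h.add (isAlgebraic_algebraMap a.1)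
      · have : IntermediateField.adjoin F ({ξ (some a)} : Set K) = IntermediateField.adjoin F ({x} : Set K) := by
          refine le_antisymm (IntermediateField.adjoin_simple_le_iff.2
            (sub_mem (IntermediateField.mem_adjoin_simple_self F x) (IntermediateField.algebraMap_mem _ _)))
            (IntermediateField.adjoin_simple_le_iff.2 ?_)
          have h := add_mem (IntermediateField.mem_adjoin_simple_self F (ξ (some a)))
            (IntermediateField.algebraMap_mem _ a.1)
          simpa [ξ] using h
        rw [this, hrank]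
  haveI : Finite {P : _root_.FunFld.Place F K // P.deg = 1} :=
    ((finite_places_deg_le hK 1).subset fun P (hP : P.deg = 1) => hP.le).to_subtype
  letI := Fintype.ofFinite {P : _root_.FunFld.Place F K // P.deg = 1}
  letI : Fintype A := Fintype.ofFinite A
  have hcount : Nat.card {P : _root_.FunFld.Place F K // P.deg = 1} ≤ d * (Nat.card A + 1) := by
    rw [Nat.card_eq_fintype_card, Nat.card_eq_fintype_card, ← Fintype.card_option, ← Finset.card_univ,
      ← Finset.card_univ]
    refine Finset.card_le_mul_card_image_of_maps_to (fun P _ => Finset.mem_univ (f P)) d fun o _ => ?_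
    have h := sum_ord_mul_deg_le hK (hξtr o).1
      ((Finset.univ.filter fun P => f P = o).map ⟨Subtype.val, Subtype.val_injective⟩)
      (by
        simp only [Finset.mem_map, Finset.mem_filter, Finset.mem_univ, true_and, Function.Embedding.coeFn_mk]
        rintro Q ⟨P, hP, rfl⟩
        exact hP ▸ hξ P)
    rw [(hξtr o).2, Finset.sum_map] at h
    refine le_trans ?_ h
    rw [Finset.card_eq_sum_ones]
    refine Finset.sum_le_sum fun P hP => ?_
    have h0 : ξ o ≠ 0 := fun e => (hξtr o).1 (e ▸ isAlgebraic_zero)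
    have := (ord_pos_iff P.1 h0).2 ((Finset.mem_filter.1 hP).2 ▸ hξ P)
    simp only [Function.Embedding.coeFn_mk, P.2, mul_one]
    omega
  have hw := (abs_le.1 (hasse_weil hK)).1
  have h1 : (_root_.FunFld.genus F K : ℝ) * Real.sqrt (Nat.card F : ℝ) ≤
      ((D * d ^ 2 + 1 : ℕ) : ℝ) * Real.sqrt (Nat.card F : ℝ) :=
    mul_le_mul_of_nonneg_right (by exact_mod_cast hgen) (Real.sqrt_nonneg _)
  refine le_trans ?_ (Nat.cast_le.2 hcount)
  linarith

end

end Groth.Agent.PointLower
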