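import Mathlib

/-!
# Extension of points to localisations and bounded fibres
-/

set_option autoImplicit false
set_option maxSynthPendingDepth 3

universe u

open Polynomial

namespace Groth.Agent.PointLower

variable {R : Type u} [CommRing R] {Ω : Type u} [Field Ω] [Algebra R Ω]

/-- The fractions with denominator a power of `h`, inside a field. -/
def Loc (E : Subalgebra R Ω) {h : Ω} (hh : h ∈ E) : Subalgebra R Ω where
  carrier := {z | ∃ N : ℕ, z * h ^ N ∈ E}
  mul_mem' := by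
    rintro a b ⟨N, hN⟩ ⟨M, hM⟩
    refine ⟨N + M, ?_⟩
    rw [show a * b * h ^ (N + M) = a * h ^ N * (b * h ^ M) by ring]
    exact mul_mem hN hM
  add_mem' := by
    rintro a b ⟨N, hN⟩ ⟨M, hM⟩
    refine ⟨N + M, ?_⟩
    rw [show (a + b) * h ^ (N + M) = a * h ^ N * h ^ M + b * h ^ M * h ^ N by ring]
    exact add_mem (mul_mem hN (pow_mem hh _)) (mul_mem hM (pow_mem hh _))
  algebraMap_mem' r := ⟨0, by simp⟩

theorem le_Loc (E : Subalgebra R Ω) {h : Ω} (hh : h ∈ E) : E ≤ Loc E hh := fun z hz => ⟨0, by simpa using hz⟩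

/-- A point not meeting `h = 0` extends to the localisation at `h`. -/
theorem exists_extend {E : Subalgebra R Ω} {h : Ω} (hh : h ∈ E) {F : Type u} [Field F] [Algebra R F]
    (ψ : E →ₐ[R] F) (hψ : ψ ⟨h, hh⟩ ≠ 0) :
    ∃ θ : Loc E hh →ₐ[R] F, ∀ z : E, θ ⟨z, le_Loc E hh z.2⟩ = ψ z := by
  have hspec : ∀ z : Loc E hh, ∃ N : ℕ, (z : Ω) * h ^ N ∈ E := fun z => z.2
  choose N hN using hspec
  let θ : Loc E hh → F := fun z => ψ ⟨_, hN z⟩ / ψ ⟨h, hh⟩ ^ N z
  have key : ∀ (z : Loc E hh) (M : ℕ) (hM : (z : Ω) * h ^ M ∈ E), θ z * ψ ⟨h, hh⟩ ^ M = ψ ⟨_, hM⟩ := by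
    intro z M hM
    simp only [θ]
    rw [div_mul_eq_mul_div, div_eq_iff (pow_ne_zero _ hψ), ← map_pow, ← map_pow, ← map_mul, ← map_mul]
    congr 1
    apply Subtype.ext
    simp only [MulMemClass.coe_mul, SubmonoidClass.coe_pow]
    ring
  have key' : ∀ (z : Loc E hh) (M : ℕ) (w : E), (z : Ω) * h ^ M = w → θ z * ψ ⟨h, hh⟩ ^ M = ψ w := by
    intro z M w hw
    rw [key z M (hw ▸ w.2)]
    exact congrArg ψ (Subtype.ext hw)
  have huniq : ∀ (z : Loc E hh) (M : ℕ) (v : F) (w : E), (z : Ω) * h ^ M = w →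
      v * ψ ⟨h, hh⟩ ^ M = ψ w → θ z = v := fun z M v w hw hv =>
    mul_right_cancel₀ (pow_ne_zero _ hψ) ((key' z M w hw).trans hv.symm)
  refine ⟨{ toFun := θ
            map_one' := huniq 1 0 1 1 (by simp) (by simp)
            map_zero' := huniq 0 0 0 0 (by simp) (by simp)
            map_mul' := fun a b => huniq _ (N a + N b) _ (⟨_, hN a⟩ * ⟨_, hN b⟩)
              (by simp only [MulMemClass.coe_mul]; ring)
              (by rw [pow_add, map_mul, ← key a _ (hN a), ← key b _ (hN b)]; ring)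
            map_add' := fun a b => huniq _ (N a + N b) _
              (⟨_, hN a⟩ * ⟨h, hh⟩ ^ N b + ⟨_, hN b⟩ * ⟨h, hh⟩ ^ N a)
              (by simp only [AddMemClass.coe_add, MulMemClass.coe_mul, SubmonoidClass.coe_pow]; ring)
              (by rw [pow_add, map_add, map_mul, map_mul, map_pow, map_pow, ← key a _ (hN a),
                    ← key b _ (hN b)]; ring)
            commutes' := fun r => huniq _ 0 _ (algebraMap R E r) (by simp) (by simp) },
    fun z => huniq _ 0 _ z (by simp) (by simp)⟩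

theorem finite_pts {S : Set Ω} (hS : S.Finite) (F : Type u) [Field F] [Finite F] [Algebra R F] :
    Finite (Algebra.adjoin R S →ₐ[R] F) := by
  haveI := hS.to_subtype
  exact Finite.of_injective
    (fun φ : Algebra.adjoin R S →ₐ[R] F => fun z : S => φ ⟨z, Algebra.subset_adjoin z.2⟩)
    fun φ φ' h => AlgHom.adjoin_ext (fun z hz => congrFun h ⟨z, hz⟩)

/-- Restriction of points along a generically finite inclusion has bounded fibres. -/
theorem exists_fibre_bound (S : Finset Ω) {G : Finset Ω} {h : Ω}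
    (hh : h ∈ Algebra.adjoin R (G : Set Ω))
    (hS : (S : Set Ω) ⊆ Loc (Algebra.adjoin R (G : Set Ω)) hh)
    (hG : ∀ z ∈ G, ∃ p : (Algebra.adjoin R (S : Set Ω))[X], aeval z p = 0 ∧
      (p.leadingCoeff : Ω) ≠ 0 ∧ (p.leadingCoeff : Ω)⁻¹ ∈ Loc (Algebra.adjoin R (G : Set Ω)) hh) :
    ∃ M : ℕ, 0 < M ∧ ∀ (F : Type u) [Field F] [Finite F] [Algebra R F],
      Nat.card {ψ : Algebra.adjoin R (G : Set Ω) →ₐ[R] F // ψ ⟨h, hh⟩ ≠ 0} ≤
        M * Nat.card (Algebra.adjoin R (S : Set Ω) →ₐ[R] F) := by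
  classical
  set E := Algebra.adjoin R (G : Set Ω)
  set A := Algebra.adjoin R (S : Set Ω)
  choose! p hp0 hpl hpi using hG
  refine ⟨∏ z ∈ G, ((p z).natDegree + 1), Finset.prod_pos fun z _ => Nat.succ_pos _, fun F _ _ _ => ?_⟩
  have hA : A ≤ Loc E hh := Algebra.adjoin_le hS
  have hex : ∀ ψ : {ψ : E →ₐ[R] F // ψ ⟨h, hh⟩ ≠ 0}, ∃ θ : Loc E hh →ₐ[R] F,
      ∀ z : E, θ ⟨z, le_Loc E hh z.2⟩ = ψ.1 z := fun ψ => exists_extend hh ψ.1 ψ.2
  choose θ hθ using hex
  haveI := finite_pts (R := R) S.finite_toSet F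
  haveI := finite_pts (R := R) G.finite_toSet F
  letI := Fintype.ofFinite {ψ : E →ₐ[R] F // ψ ⟨h, hh⟩ ≠ 0}
  letI := Fintype.ofFinite (A →ₐ[R] F)
  letI := Fintype.ofFinite F
  let res : {ψ : E →ₐ[R] F // ψ ⟨h, hh⟩ ≠ 0} → (A →ₐ[R] F) := fun ψ =>
    (θ ψ).comp (Subalgebra.inclusion hA)
  rw [Nat.card_eq_fintype_card, Nat.card_eq_fintype_card, ← Finset.card_univ, ← Finset.card_univ]
  refine Finset.card_le_mul_card_image_of_maps_to (fun ψ _ => Finset.mem_univ (res ψ)) _ fun χ _ => ?_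
  -- the values at the generators are roots of fixed polynomials
  let T : (z : {z // z ∈ G}) → Finset F := fun z =>
    ((p z.1).map χ.toRingHom).roots.toFinset
  have hT : ∀ ψ ∈ Finset.univ.filter (fun ψ => res ψ = χ), ∀ z : {z // z ∈ G},
      ψ.1 ⟨z.1, Algebra.subset_adjoin z.2⟩ ∈ T z := by
    intro ψ hψ z
    have hres : (θ ψ).toRingHom.comp (Subalgebra.inclusion hA).toRingHom = χ.toRingHom :=
      congrArg AlgHom.toRingHom (Finset.mem_filter.1 hψ).2
    rw [Multiset.mem_toFinset, mem_roots', Polynomial.IsRoot.def]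
    refine ⟨fun h0 => ?_, ?_⟩
    · have h1 := congrArg (fun q : F[X] => q.coeff (p z.1).natDegree) h0
      simp only [coeff_map, coeff_zero, coeff_natDegree, ← hres, RingHom.comp_apply] at h1
      have h2 : (⟨_, hA (p z.1).leadingCoeff.2⟩ : Loc E hh) * ⟨_, hpi z.1 z.2⟩ = 1 :=
        Subtype.ext (mul_inv_cancel₀ (hpl z.1 z.2))
      have h3 := congrArg (θ ψ) h2
      rw [map_mul, map_one, show θ ψ ⟨_, hA (p z.1).leadingCoeff.2⟩ = 0 from h1, zero_mul] at h3
      exact zero_ne_one h3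
    · rw [eval_map, ← hres, ← hθ ψ]
      show eval₂ ((θ ψ).toRingHom.comp _) ((θ ψ).toRingHom _) _ = 0
      rw [← hom_eval₂]
      convert! map_zero (θ ψ).toRingHom using 2
      apply Subtype.ext
      have := hp0 z.1 z.2
      rw [aeval_def] at this
      rw [ZeroMemClass.coe_zero, ← this]
      exact hom_eval₂ _ _ (Loc E hh).val.toRingHom _
  refine le_trans (Finset.card_le_card_of_injOn
    (fun ψ => fun z : {z // z ∈ G} => ψ.1 ⟨z.1, Algebra.subset_adjoin z.2⟩)
    (t := Fintype.piFinset T) (fun ψ hψ => Fintype.mem_piFinset.2 fun z => hT ψ hψ z) ?_) ?_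
  · intro ψ _ ψ' _ he
    exact Subtype.ext (AlgHom.adjoin_ext fun z hz => congrFun he ⟨z, hz⟩)
  · rw [Fintype.card_piFinset]
    refine (Finset.prod_le_prod' fun z _ => ?_).trans
      (le_of_eq (Finset.prod_coe_sort G fun z => (p z).natDegree + 1))
    exact ((Multiset.toFinset_card_le _).trans (card_roots' _)).trans
      (natDegree_map_le.trans (Nat.le_succ _))

end Groth.Agent.PointLower
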