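import Groth.Agent.PointLower.Closed

/-!
# The abscissa of the zeta series of an arithmetic scheme is its dimension
-/

set_option autoImplicit false
set_option maxSynthPendingDepth 3

universe u

noncomputable section

open AlgebraicGeometry CategoryTheory Groth.Agent.ZetaEuler Filter Topology

namespace Groth.Agent.PointLower

-- the scalar action of `ULift R` transported from `R` conflicts with the one of an algebra over it
attribute [-instance] ULift.smulLeft

variable {X : Scheme.{u}} (f : X ⟶ Spec (CommRingCat.of (ULift.{u} ℤ))) [LocallyOfFiniteType f] [QuasiCompact f]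

include f in
theorem finite_cycles (r : ℕ) (hr : topologicalKrullDim X ≤ r) (n : ℕ) (hn : n ≠ 0) :
    Finite {α : Cl X →₀ ℕ // (α.prod fun x m => nm x ^ m) = n} := by
  classical
  obtain ⟨c, p₀, -, hb⟩ := ZetaEuler.exists_bound f r hr
  haveI : ∀ k : ℕ, Finite {x : Cl X // nm x = k} := fun k => (hb k).1
  have hs : {x : Cl X | nm x ≤ n}.Finite := by
    refine ((Set.finite_Iic n).biUnion fun k _ => Set.finite_coe_iff.1
      (show Finite ({x : Cl X | nm x = k} : Set (Cl X)) from (hb k).1)).subset fun x hx => ?_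
    exact Set.mem_biUnion (x := nm x) hx rfl
  haveI := hs.to_subtype
  have hle : ∀ γ : {α : Cl X →₀ ℕ // (α.prod fun x m => nm x ^ m) = n}, ∀ x,
      γ.1 x ≤ n ∧ (¬ nm x ≤ n → γ.1 x = 0) := fun γ x => by
    rcases eq_or_ne (γ.1 x) 0 with h0 | h0
    · exact ⟨h0 ▸ Nat.zero_le _, fun _ => h0⟩
    have h1 : nm x ^ γ.1 x ≤ n := by
      refine Nat.le_of_dvd (Nat.pos_of_ne_zero hn) ?_
      conv_rhs => rw [← γ.2]
      exact Finset.dvd_prod_of_mem _ (Finsupp.mem_support_iff.2 h0)
    exact ⟨((Nat.lt_two_pow_self (n := γ.1 x)).le.trans (Nat.pow_le_pow_left (two_le_nm f x) _)).trans h1,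
      fun h => absurd ((Nat.le_self_pow h0 _).trans h1) h⟩
  refine Finite.of_injective (fun α (x : {x : Cl X | nm x ≤ n}) =>
    (⟨min (α.1 x.1) n, Nat.lt_succ_of_le (min_le_right _ _)⟩ : Fin (n + 1))) fun α β he => ?_
  refine Subtype.ext (Finsupp.ext fun x => ?_)
  by_cases hx : nm x ≤ n
  · have h1 := congrArg Fin.val (congrFun he ⟨x, hx⟩)
    simpa [min_eq_left (hle α x).1, min_eq_left (hle β x).1] using h1
  · rw [(hle α x).2 hx, (hle β x).2 hx]

include f in
/-- Where the zeta series converges absolutely the norms of the closed points are summable. -/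
theorem summable_points (r : ℕ) (hr : topologicalKrullDim X ≤ r) {σ : ℝ}
    (h : LSeriesSummable (Zeta.arithCoeff X) (σ : ℂ)) : Summable fun x : Cl X => (nm x : ℝ) ^ (-σ) := by
  classical
  obtain ⟨c, p₀, -, hb⟩ := ZetaEuler.exists_bound f r hr
  haveI : ∀ k : ℕ, Finite {x : Cl X // nm x = k} := fun k => (hb k).1
  rw [← (Equiv.sigmaFiberEquiv fun x : Cl X => nm x).summable_iff]
  refine (summable_sigma_of_nonneg fun p => Real.rpow_nonneg (Nat.cast_nonneg _) _).2
    ⟨fun n => Summable.of_finite, Summable.of_nonneg_of_le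
      (fun n => tsum_nonneg fun p => Real.rpow_nonneg (Nat.cast_nonneg _) _) (fun n => ?_) h.norm⟩
  letI := Fintype.ofFinite {x : Cl X // nm x = n}
  rw [tsum_fintype, LSeries.norm_term_eq]
  split_ifs with hn
  · subst hn
    refine le_of_eq (Finset.sum_eq_zero fun x _ => ?_)
    exact absurd (two_le_nm f x.1) (by rw [x.2]; omega)
  rw [Complex.ofReal_re]
  refine le_trans (le_of_eq (Finset.sum_congr rfl fun x _ => by
    show (nm x.1 : ℝ) ^ (-σ) = _
    rw [x.2])) ?_
  rw [Finset.sum_const, nsmul_eq_mul, Finset.card_univ, ← Nat.card_eq_fintype_card, Real.rpow_neg n.cast_nonneg,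
    ← div_eq_mul_inv]
  refine div_le_div_of_nonneg_right ?_ (Real.rpow_nonneg n.cast_nonneg _)
  rw [Zeta.arithCoeff, RCLike.norm_natCast, Nat.cast_le, cycleNormCount_eq]
  haveI := finite_cycles f r hr n hn
  refine Nat.card_le_card_of_injective (fun x => ⟨Finsupp.single x.1 1, by
    rw [Finsupp.prod_single_index (h := fun x m => nm x ^ m) (pow_zero _), pow_one, x.2]⟩) fun x y hxy => ?_
  exact Subtype.ext (Finsupp.single_left_injective one_ne_zero (congrArg Subtype.val hxy))

include f in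
theorem not_summable_nonpos (r : ℕ) (hr : topologicalKrullDim X = r) {σ : ℝ} (hσ : σ ≤ 0) :
    ¬ LSeriesSummable (Zeta.arithCoeff X) (σ : ℂ) := by
  classical
  intro h
  haveI := jacobsonSpace f
  obtain ⟨l, -⟩ := Order.le_krullDim_iff.1 hr.ge
  obtain ⟨x₀, hx₀⟩ := l.head.isIrreducible.nonempty
  obtain ⟨x, -, hx⟩ := nonempty_inter_closedPoints ⟨x₀, hx₀⟩ l.head.isClosed.isLocallyClosed
  let y : Cl X := ⟨x, hx⟩
  have hinj : Function.Injective fun k : ℕ => nm y ^ k := Nat.pow_right_injective (two_le_nm f y)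
  have h0 := (h.norm.comp_injective hinj).tendsto_atTop_zero
  have h1 : ∀ k : ℕ, 1 ≤ ‖LSeries.term (Zeta.arithCoeff X) (σ : ℂ) (nm y ^ k)‖ := fun k => by
    have hpos : 0 < nm y ^ k := pow_pos (by have := two_le_nm f y; omega) k
    rw [LSeries.norm_term_eq, if_neg hpos.ne', Complex.ofReal_re]
    have hn1 : (1 : ℝ) ≤ ((nm y ^ k : ℕ) : ℝ) := by exact_mod_cast hpos
    rw [le_div_iff₀ (Real.rpow_pos_of_pos (by linarith) _), one_mul]
    refine (Real.rpow_le_one_of_one_le_of_nonpos hn1 hσ).trans ?_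
    rw [Zeta.arithCoeff, RCLike.norm_natCast, Nat.one_le_cast, cycleNormCount_eq]
    haveI := finite_cycles f r hr.le _ hpos.ne'
    haveI : Nonempty {α : Cl X →₀ ℕ // (α.prod fun x m => nm x ^ m) = nm y ^ k} :=
      ⟨⟨Finsupp.single y k, Finsupp.prod_single_index (pow_zero _)⟩⟩
    exact Nat.card_pos
  exact absurd (ge_of_tendsto' h0 h1) (by norm_num)

variable {B : Type u} [CommRing B] [IsDomain B] [Algebra.FiniteType ℤ B]

include f in
theorem false_of_charP (j : Spec (CommRingCat.of B) ⟶ X) [IsImmersion j] (p : ℕ) [Fact p.Prime] [CharP B p]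
    (r : ℕ) (hdim : ringKrullDim B = r) {σ : ℝ} (hσ0 : 0 < σ) (hσ : σ < r)
    (hsum : Summable fun x : Cl X => (nm x : ℝ) ^ (-σ)) : False := by
  classical
  have hp : p.Prime := Fact.out
  let R := ULift.{u} (ZMod p)
  letI : Algebra R B := ((ZMod.castHom dvd_rfl B).comp (ULift.ringEquiv (R := ZMod p)).toRingHom).toAlgebra
  haveI : Algebra.FiniteType R B := RingHom.finiteType_algebraMap.1
    (RingHom.FiniteType.of_comp_finiteType (f := Int.castRingHom R)
      ((RingHom.ext_int (algebraMap ℤ B) ((algebraMap R B).comp (Int.castRingHom R))) ▸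
        RingHom.finiteType_algebraMap.2 ‹Algebra.FiniteType ℤ B›))
  obtain ⟨s, hs, hs'⟩ := Groth.Agent.DimFormula.exists_trdeg_eq_ringKrullDim R B
  obtain rfl : s = r := by exact_mod_cast hs'.symm.trans hdim
  obtain ⟨T, hT, c, hc, N, hcount⟩ := exists_count R B s hs
  set R' := Algebra.adjoin R (T : Set (AlgebraicClosure (FractionRing B)))
  haveI : Module.Finite R R' := Module.Finite.iff_fg.2
    (fg_adjoin_of_finite T.finite_toSet fun z hz => (hT z hz).isIntegral)
  haveI : Finite R' := Module.finite_of_finite R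
  letI : Field R' := (Finite.isField_of_domain R').toField
  haveI : CharP R' p := charP_of_injective_ringHom (algebraMap R R').injective p
  have hsum' : ∀ m : ℕ, Finite {x : Cl X // ∃ e, 1 ≤ e ∧ e ≤ m ∧ nm x = p ^ e} ∧
      (Nat.card {x : Cl X // ∃ e, 1 ≤ e ∧ e ≤ m ∧ nm x = p ^ e} : ℝ) * ((p : ℝ) ^ m) ^ (-σ) ≤
        ∑' x : Cl X, (nm x : ℝ) ^ (-σ) := by
    intro m
    have hpm : (0 : ℝ) < (p : ℝ) ^ m := pow_pos (by exact_mod_cast hp.pos) m
    have hle : ∀ x : {x : Cl X // ∃ e, 1 ≤ e ∧ e ≤ m ∧ nm x = p ^ e},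
        ((p : ℝ) ^ m) ^ (-σ) ≤ (nm x.1 : ℝ) ^ (-σ) := fun x => by
      obtain ⟨e, he1, hem, he⟩ := x.2
      rw [he, Nat.cast_pow]
      exact Real.rpow_le_rpow_of_nonpos (pow_pos (by exact_mod_cast hp.pos) e)
        (pow_le_pow_right₀ (by exact_mod_cast hp.one_lt.le) hem) (by linarith)
    have hfin : Finite {x : Cl X // ∃ e, 1 ≤ e ∧ e ≤ m ∧ nm x = p ^ e} := by
      by_contra hinf
      haveI := not_finite_iff_infinite.1 hinf
      have h1 : Summable fun _ : {x : Cl X // ∃ e, 1 ≤ e ∧ e ≤ m ∧ nm x = p ^ e} => ((p : ℝ) ^ m) ^ (-σ) :=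
        Summable.of_nonneg_of_le (fun _ => (Real.rpow_pos_of_pos hpm _).le) hle
          (hsum.comp_injective Subtype.val_injective)
      exact (Real.rpow_pos_of_pos hpm (-σ)).ne' ((summable_const_iff _).1 h1)
    refine ⟨hfin, ?_⟩
    letI := Fintype.ofFinite {x : Cl X // ∃ e, 1 ≤ e ∧ e ≤ m ∧ nm x = p ^ e}
    calc _ = ∑ _x : {x : Cl X // ∃ e, 1 ≤ e ∧ e ≤ m ∧ nm x = p ^ e}, ((p : ℝ) ^ m) ^ (-σ) := by
          rw [Finset.sum_const, nsmul_eq_mul, Finset.card_univ, Nat.card_eq_fintype_card]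
      _ ≤ ∑ x : {x : Cl X // ∃ e, 1 ≤ e ∧ e ≤ m ∧ nm x = p ^ e}, (nm x.1 : ℝ) ^ (-σ) :=
          Finset.sum_le_sum fun x _ => hle x
      _ ≤ _ := by
          rw [← tsum_fintype (L := SummationFilter.unconditional _)]
          exact (hsum.comp_injective Subtype.val_injective).tsum_le_tsum_of_inj Subtype.val
            Subtype.val_injective (fun x _ => Real.rpow_nonneg (Nat.cast_nonneg _) _) (fun _ => le_rfl) hsum
  letI := ZMod.algebra R' p
  set e := Module.finrank (ZMod p) R' with he'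
  have he : 0 < e := Module.finrank_pos
  set S := ∑' x : Cl X, (nm x : ℝ) ^ (-σ)
  set a : ℝ := (p : ℝ) ^ ((e : ℝ) * ((s : ℝ) - σ)) with ha
  have ha1 : 1 < a := Real.one_lt_rpow (by exact_mod_cast hp.one_lt)
    (mul_pos (by exact_mod_cast he) (by linarith))
  -- along the extensions of degree `n`, the counts force `c a^n ≤ e n S`
  have key : ∀ n : ℕ, 0 < n → N ≤ p ^ (e * n) → c * a ^ n ≤ ((e * n : ℕ) : ℝ) * S := by
    intro n hn hN
    haveI : NeZero n := ⟨hn.ne'⟩
    let F := ULift.{u} (FiniteField.Extension R' p n)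
    let φ : R' →+* F := ULift.ringEquiv.symm.toRingHom.comp (algebraMap R' (FiniteField.Extension R' p n))
    letI : Algebra R F := (φ.comp (algebraMap R R')).toAlgebra
    have hF : Nat.card F = p ^ (e * n) := by
      rw [Nat.card_congr Equiv.ulift, FiniteField.natCard_extension, Module.natCard_eq_pow_finrank (K := ZMod p),
        Nat.card_zmod, ← pow_mul]
    haveI := (hsum' (e * n)).1
    have h1 := hcount F ⟨{ φ with commutes' := fun r => rfl }⟩ (hF ▸ hN)
    have h2 := card_hom_le f j (F := F) hp hF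
    have h3 := (hsum' (e * n)).2
    rw [hF, Nat.cast_pow] at h1
    set q : ℝ := (p : ℝ) ^ (e * n) with hq
    have hq0 : 0 < q := pow_pos (by exact_mod_cast hp.pos) _
    have hqa : a ^ n = q ^ s * q ^ (-σ) := by
      rw [← Real.rpow_natCast q s, ← Real.rpow_add hq0, hq, ← Real.rpow_natCast_mul p.cast_nonneg,
        ha, ← Real.rpow_mul_natCast p.cast_nonneg]
      push_cast
      ring_nf
    rw [hqa, ← mul_assoc]
    have h4 : c * q ^ s ≤ ((e * n : ℕ) : ℝ) *
        (Nat.card {x : Cl X // ∃ e', 1 ≤ e' ∧ e' ≤ e * n ∧ nm x = p ^ e'} : ℝ) :=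
      h1.trans (by exact_mod_cast h2)
    refine (mul_le_mul_of_nonneg_right h4 (Real.rpow_nonneg hq0.le _)).trans ?_
    rw [mul_assoc]
    exact mul_le_mul_of_nonneg_left h3 (Nat.cast_nonneg _)
  have hev : ∀ᶠ n : ℕ in atTop, c * a ^ n ≤ ((e * n : ℕ) : ℝ) * S := by
    filter_upwards [eventually_ge_atTop (max 1 N)] with n hn
    refine key n (by omega) ?_
    calc N ≤ n := le_trans (le_max_right _ _) hn
      _ ≤ e * n := Nat.le_mul_of_pos_left n he
      _ ≤ p ^ (e * n) := (Nat.lt_pow_self hp.one_lt).le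
  have hlim : Tendsto (fun n : ℕ => ((e * n : ℕ) : ℝ) * S / a ^ n) atTop (𝓝 0) := by
    have := (tendsto_pow_const_div_const_pow_of_one_lt 1 ha1).const_mul ((e : ℝ) * S)
    rw [mul_zero] at this
    refine this.congr fun n => ?_
    push_cast
    ring
  have := ge_of_tendsto hlim (hev.mono fun n hn => by
    rw [le_div_iff₀ (pow_pos (by linarith) n)]
    exact hn)
  linarith

include f in
theorem false_of_charZero (j : Spec (CommRingCat.of B) ⟶ X) [IsImmersion j] [CharZero B]
    (r : ℕ) (hdim : ringKrullDim B = r) {σ : ℝ} (hσ : σ < r)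
    (hsum : Summable fun x : Cl X => (nm x : ℝ) ^ (-σ)) : False := by
  classical
  let R := ULift.{u} ℤ
  letI : Algebra R B := ((Int.castRingHom B).comp (ULift.ringEquiv (R := ℤ)).toRingHom).toAlgebra
  haveI : Algebra.FiniteType R B := RingHom.finiteType_algebraMap.1
    (RingHom.FiniteType.of_comp_finiteType (f := Int.castRingHom R)
      ((RingHom.ext_int (algebraMap ℤ B) ((algebraMap R B).comp (Int.castRingHom R))) ▸
        RingHom.finiteType_algebraMap.2 ‹Algebra.FiniteType ℤ B›))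
  haveI : FaithfulSMul R B := (faithfulSMul_iff_algebraMap_injective R B).2
    ((Int.cast_injective (α := B)).comp (ULift.ringEquiv (R := ℤ)).injective)
  haveI : IsDomain R := MulEquiv.isDomain ℤ (ULift.ringEquiv (R := ℤ)).toMulEquiv
  haveI : IsNoetherianRing R := isNoetherianRing_of_ringEquiv ℤ (ULift.ringEquiv (R := ℤ)).symm
  haveI : (⊥ : Ideal B).LiesOver (⊥ : Ideal R) :=
    ⟨by rw [Ideal.under, Ideal.comap_bot_of_injective _ (FaithfulSMul.algebraMap_injective R B)]⟩
  obtain ⟨_, _, _, d, -, -, -, hd, -⟩ := Groth.Agent.DimFormula.exists_dimension_inequality R B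
    (⊥ : Ideal R) (⊥ : Ideal B)
  have hR : ringKrullDim R ≤ ((1 : ℕ) : WithBot ℕ∞) := by
    rw [ringKrullDim_eq_of_ringEquiv (ULift.ringEquiv (R := ℤ))]
    exact (Ring.krullDimLE_iff (n := 1) (R := ℤ)).1 inferInstance
  have hrd : r ≤ d + 1 := by
    have h : ringKrullDim B ≤ ((d + 1 : ℕ) : WithBot ℕ∞) := by
      rw [ringKrullDim_le_iff_isMaximal_height_le]
      intro m hm
      obtain ⟨a, b, c, d', ha, -, hc, hd', habcd⟩ := Groth.Agent.DimFormula.exists_dimension_inequality R B
        (m.under R) m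
      obtain rfl : d' = d := by exact_mod_cast hd'.symm.trans hd
      have hc1 : c ≤ 1 := by
        have h1 := (Ideal.height_le_ringKrullDim_of_ne_top (I := m.under R) (Ideal.IsPrime.ne_top inferInstance)).trans hR
        rw [hc] at h1
        exact_mod_cast h1
      rw [ha]
      exact_mod_cast (show a ≤ d' + 1 by omega)
    rw [hdim] at h
    exact_mod_cast h
  obtain ⟨T, hT, c, hc, N, hcount⟩ := exists_count R B d hd
  haveI : CharZero (FractionRing B) := IsFractionRing.charZero B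
  haveI : CharZero (AlgebraicClosure (FractionRing B)) :=
    charZero_of_injective_algebraMap (algebraMap (FractionRing B) (AlgebraicClosure (FractionRing B))).injective
  obtain ⟨G, hGp, hGhom, hG⟩ := exists_primes_hom T hT
  obtain ⟨S, hS, hfin⟩ : ∃ S : ℕ → ℝ, Summable S ∧ ∀ n : ℕ, 1 < n → Finite {x : Cl X // nm x = n} ∧
      (Nat.card {x : Cl X // nm x = n} : ℝ) * (n : ℝ) ^ (-σ) ≤ S n := by
    have hsum' := (Equiv.sigmaFiberEquiv fun x : Cl X => nm x).summable_iff.2 hsum
    obtain ⟨h1, h2⟩ := (summable_sigma_of_nonneg fun p => Real.rpow_nonneg (Nat.cast_nonneg _) _).1 hsum'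
    refine ⟨_, h2, fun n hn => ?_⟩
    have hconst : ∀ x : {x : Cl X // nm x = n}, (nm x.1 : ℝ) ^ (-σ) = (n : ℝ) ^ (-σ) := fun x => by rw [x.2]
    have hfin : Finite {x : Cl X // nm x = n} := by
      by_contra hinf
      haveI := not_finite_iff_infinite.1 hinf
      have h3 : Summable fun _ : {x : Cl X // nm x = n} => (n : ℝ) ^ (-σ) := (h1 n).congr fun x => hconst x
      exact (Real.rpow_pos_of_pos (by exact_mod_cast (show 0 < n by omega)) (-σ)).ne' ((summable_const_iff _).1 h3)
    refine ⟨hfin, le_of_eq ?_⟩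
    letI := Fintype.ofFinite {x : Cl X // nm x = n}
    rw [tsum_fintype, Nat.card_eq_fintype_card, ← Finset.card_univ, ← nsmul_eq_mul, ← Finset.sum_const]
    exact Finset.sum_congr rfl fun x _ => (hconst x).symm
  refine hG (σ - d) (by
    have : (r : ℝ) ≤ d + 1 := by exact_mod_cast hrd
    linarith) (Summable.of_norm_bounded_eventually (g := fun p => c⁻¹ * S p) (hS.mul_left _) ?_)
  filter_upwards [((Set.finite_Iio (max N 2))).compl_mem_cofinite] with p hp
  rw [Set.mem_compl_iff, Set.mem_Iio, not_lt, max_le_iff] at hp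
  obtain ⟨hfinp, hSp⟩ := hfin p (by omega)
  by_cases hpG : p ∈ G
  · rw [Set.indicator_of_mem hpG, Real.norm_of_nonneg (Real.rpow_nonneg p.cast_nonneg _), le_inv_mul_iff₀ hc]
    haveI := Fact.mk (hGp p hpG)
    let F := ULift.{u} (ZMod p)
    obtain ⟨φ⟩ := hGhom p hpG
    letI : Algebra R F := ((Int.castRingHom F).comp (ULift.ringEquiv (R := ℤ)).toRingHom).toAlgebra
    have hF : Nat.card F = p ^ 1 := by rw [Nat.card_congr Equiv.ulift, Nat.card_zmod, pow_one]
    have h1 := hcount F ⟨{ ULift.ringEquiv.symm.toRingHom.comp φ with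
      commutes' := fun r => RingHom.congr_fun (RingHom.ext_int
        ((ULift.ringEquiv.symm.toRingHom.comp φ).comp ((algebraMap R _).comp (ULift.ringEquiv (R := ℤ)).symm.toRingHom))
        ((algebraMap R F).comp (ULift.ringEquiv (R := ℤ)).symm.toRingHom)) r.down }⟩
      (by rw [hF, pow_one]; exact hp.1)
    have heq : ∀ x : Cl X, (∃ e, 1 ≤ e ∧ e ≤ 1 ∧ nm x = p ^ e) ↔ nm x = p := fun x =>
      ⟨fun ⟨e, h1, h2, h3⟩ => by rw [h3, show e = 1 by omega, pow_one],
        fun h => ⟨1, le_rfl, le_rfl, by rw [h, pow_one]⟩⟩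
    haveI : Finite {x : Cl X // ∃ e, 1 ≤ e ∧ e ≤ 1 ∧ nm x = p ^ e} :=
      Finite.of_equiv _ (Equiv.subtypeEquivRight heq).symm
    have h2 := card_hom_le f j (F := F) (hGp p hpG) hF
    rw [one_mul, Nat.card_congr (Equiv.subtypeEquivRight heq)] at h2
    rw [hF, pow_one] at h1
    refine le_trans ?_ hSp
    rw [neg_sub, sub_eq_add_neg, Real.rpow_add (by exact_mod_cast (hGp p hpG).pos), Real.rpow_natCast, ← mul_assoc]
    exact mul_le_mul_of_nonneg_right (h1.trans (Nat.cast_le.2 h2)) (Real.rpow_nonneg p.cast_nonneg _)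
  · rw [Set.indicator_of_notMem hpG, norm_zero]
    refine mul_nonneg (inv_nonneg.2 hc.le) (le_trans ?_ hSp)
    exact mul_nonneg (Nat.cast_nonneg _) (Real.rpow_nonneg p.cast_nonneg _)

omit [IsDomain B] [Algebra.FiniteType ℤ B] in
include f in
/-- The abscissa of the zeta series of an arithmetic scheme of dimension `r` is `r`. -/
theorem abscissa_eq (r : ℕ) (hr : topologicalKrullDim X = r) :
    LSeries.abscissaOfAbsConv (Zeta.arithCoeff X) = (r : ℝ) := by
  refine le_antisymm (ZetaEuler.main f r hr.le).1 (le_of_not_gt fun hlt => ?_)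
  obtain ⟨σ, hσ1, hσ2⟩ := EReal.lt_iff_exists_real_btwn.1 hlt
  have hσr : σ < (r : ℝ) := EReal.coe_lt_coe_iff.1 hσ2
  have hS : LSeriesSummable (Zeta.arithCoeff X) (σ : ℂ) :=
    LSeriesSummable_of_abscissaOfAbsConv_lt_re (by simpa using hσ1)
  rcases le_or_gt σ 0 with h0 | h0
  · exact not_summable_nonpos f r hr h0 hS
  have hsum := summable_points f r hr.le hS
  obtain ⟨B, _, j, hj, hB, hft, hdim⟩ := exists_domain f r hr
  haveI := hj
  haveI := hB
  haveI := hft
  obtain ⟨p, hchar⟩ := CharP.exists B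
  rcases CharP.char_is_prime_or_zero B p with hp | hp
  · haveI := Fact.mk hp
    exact false_of_charP f j p r hdim h0 hσr hsum
  · subst hp
    haveI := CharP.charP_to_charZero B
    exact false_of_charZero f j r hdim hσr hsum

end Groth.Agent.PointLower
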