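import Mathlib

/-!
# Plane models of one-dimensional function fields over algebraically closed fields
-/

set_option autoImplicit false
set_option maxSynthPendingDepth 3

universe u

open Polynomial IntermediateField

namespace Groth.Agent.PointLower

/-- A finitely generated field of transcendence degree one over an algebraically closed field is the
function field of a plane curve, monic in the second coordinate. -/
theorem exists_plane_model {k Ω : Type u} [Field k] [IsAlgClosed k] [Field Ω] [Algebra k Ω] (S : Finset Ω)
    (w : Ω) (hwS : w ∈ S) (hw : Transcendental k w)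
    (halg : ∀ z ∈ S, IsAlgebraic (IntermediateField.adjoin k ({w} : Set Ω)) z) :
    ∃ (x y : Ω) (g : k[X][X]), Function.Injective (aeval (R := k) x) ∧ g.Monic ∧ Irreducible g ∧
      eval₂ (aeval x).toRingHom y g = 0 ∧
      (∀ p : k[X][X], p.natDegree < g.natDegree → eval₂ (aeval x).toRingHom y p = 0 → p = 0) ∧
      x ∈ IntermediateField.adjoin k (S : Set Ω) ∧ y ∈ IntermediateField.adjoin k (S : Set Ω) ∧
      (S : Set Ω) ⊆ IntermediateField.adjoin k ({x, y} : Set Ω) := by
  classical
  set K := IntermediateField.adjoin k (S : Set Ω) with hK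
  haveI : Algebra.EssFiniteType k K :=
    IntermediateField.essFiniteType_iff.2 (IntermediateField.fg_adjoin_finset S)
  let w' : K := ⟨w, IntermediateField.subset_adjoin k _ hwS⟩
  have hw' : IsTranscendenceBasis k (fun _ : PUnit.{u + 1} => w') := by
    have hi : AlgebraicIndependent k (fun _ : PUnit.{u + 1} => w') :=
      (algebraicIndependent_singleton_iff PUnit.unit).2
        ((transcendental_algebraMap_iff (algebraMap K Ω).injective).1 hw)
    rw [hi.isTranscendenceBasis_iff_isAlgebraic, Set.range_const, ← isAlgebraic_adjoin_iff_top]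
    set Kw := IntermediateField.adjoin k ({w'} : Set K)
    have hmap : (IntermediateField.adjoin k ({w} : Set Ω)) = Kw.map K.val := by
      rw [IntermediateField.adjoin_map, Set.image_singleton]
      rfl
    have hle : IntermediateField.adjoin k ({w} : Set Ω) ≤ K :=
      IntermediateField.adjoin_simple_le_iff.2 w'.2
    constructor
    intro z
    rw [← Algebra.algebraMap_self_apply z]
    have hbar : (z : Ω) ∈ _root_.algebraicClosure (IntermediateField.adjoin k ({w} : Set Ω)) Ω := by
      have : K ≤ (_root_.algebraicClosure (IntermediateField.adjoin k ({w} : Set Ω)) Ω).restrictScalars k :=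
        IntermediateField.adjoin_le_iff.2 fun s hs => mem_algebraicClosure_iff.2 (halg s hs)
      exact this z.2
    let e : Kw ≃+* IntermediateField.adjoin k ({w} : Set Ω) :=
      ((IntermediateField.equivMap Kw K.val).trans (IntermediateField.equivOfEq hmap.symm)).toRingEquiv
    exact IsAlgebraic.of_ringHom_of_comp_eq (f := e.toRingHom) (g := algebraMap K Ω)
      (mem_algebraicClosure_iff.1 hbar) e.surjective (algebraMap K Ω).injective (RingHom.ext fun _ => rfl)
  obtain ⟨s, hs, hsep⟩ := exists_isTranscendenceBasis_and_isSeparable_of_perfectField k K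
  have hcard : s.card = 1 := by
    have h := hs.cardinalMk_eq hw'
    simp only [Cardinal.mk_fintype, Fintype.card_coe, Fintype.card_punit, Nat.cast_one] at h
    exact_mod_cast h
  obtain ⟨x', rfl⟩ := Finset.card_eq_one.1 hcard
  have hxt : Transcendental k x' :=
    hs.1.transcendental ⟨x', Finset.mem_singleton_self x'⟩
  rw [Finset.coe_singleton] at hsep
  set F1 := IntermediateField.adjoin k ({x'} : Set K)
  haveI : FiniteDimensional F1 K := by
    have : Algebra.EssFiniteType F1 K := Algebra.EssFiniteType.of_comp k F1 K
    exact Algebra.finite_of_essFiniteType_of_isAlgebraic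
  obtain ⟨y₀, hy₀⟩ := Field.exists_primitive_element F1 K
  -- make the generator integral over `k[x]`
  letI algP : Algebra k[X] K := (aeval (R := k) x').toRingHom.toAlgebra
  have hP : ∀ p : k[X], algebraMap k[X] K p = aeval x' p := fun _ => rfl
  have hy₀alg : IsAlgebraic (Algebra.adjoin k ({x'} : Set K)) y₀ :=
    isAlgebraic_adjoin_iff.1 (Algebra.IsAlgebraic.isAlgebraic (R := F1) y₀)
  have hy₀alg' : IsAlgebraic k[X] y₀ := by
    let φ : k[X] →+* Algebra.adjoin k ({x'} : Set K) :=
      (aeval (R := k) (⟨x', Algebra.subset_adjoin rfl⟩ : Algebra.adjoin k ({x'} : Set K))).toRingHom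
    refine IsAlgebraic.of_ringHom_of_comp_eq (f := φ) (g := RingHom.id K) hy₀alg ?_ Function.injective_id ?_
    · rintro ⟨z, hz⟩
      rw [Algebra.adjoin_singleton_eq_range_aeval] at hz
      obtain ⟨p, rfl⟩ := hz
      exact ⟨p, Subtype.ext (aeval_subalgebra_coe p _ _)⟩
    · exact RingHom.ext fun p => aeval_subalgebra_coe p _ _
  obtain ⟨a, ha, hint⟩ := hy₀alg'.exists_integral_multiple
  set y' := a • y₀ with hy'
  have hinjP : Function.Injective (algebraMap k[X] K) := transcendental_iff_injective.1 hxt
  haveI : Module.IsTorsionFree k[X] K := Module.isTorsionFree_iff_algebraMap_injective.2 hinjP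
  have htop : IntermediateField.adjoin k ({x', y'} : Set K) = ⊤ := by
    rw [eq_top_iff, ← IntermediateField.restrictScalars_top (K := k) (F := F1) (E := K), ← hy₀,
      IntermediateField.adjoin_simple_adjoin_simple, IntermediateField.adjoin_le_iff]
    have hx : x' ∈ IntermediateField.adjoin k ({x', y'} : Set K) :=
      IntermediateField.subset_adjoin k _ (Set.mem_insert x' _)
    have hax : algebraMap k[X] K a ∈ IntermediateField.adjoin k ({x', y'} : Set K) := by
      have h1 : Algebra.adjoin k ({x'} : Set K) ≤
          (IntermediateField.adjoin k ({x', y'} : Set K)).toSubalgebra :=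
        Algebra.adjoin_le (by simpa using hx)
      exact h1 (aeval_mem_adjoin_singleton k x')
    rintro z (rfl | rfl)
    · exact hx
    · have ha' : algebraMap k[X] K a ≠ 0 := (map_ne_zero_iff _ hinjP).2 ha
      rw [show z = (algebraMap k[X] K a)⁻¹ * y' by rw [hy', Algebra.smul_def, ← mul_assoc,
        inv_mul_cancel₀ ha', one_mul]]
      exact mul_mem (inv_mem hax) (IntermediateField.subset_adjoin k _ (Set.mem_insert_of_mem _ rfl))
  refine ⟨x', y', minpoly k[X] y', ?_, minpoly.monic hint, minpoly.irreducible hint, ?_, ?_, x'.2, y'.2, ?_⟩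
  · intro p q h
    refine hinjP (Subtype.ext ?_)
    rw [hP, hP, ← IntermediateField.aeval_coe, ← IntermediateField.aeval_coe]
    exact h
  · have h := congrArg (algebraMap K Ω) (minpoly.aeval k[X] y')
    rw [aeval_def, hom_eval₂, map_zero] at h
    convert! h using 2
    exact RingHom.ext fun p => IntermediateField.aeval_coe K x' p
  · intro p hp h
    have h' : aeval y' p = 0 := by
      refine (algebraMap K Ω).injective ?_
      rw [aeval_def, hom_eval₂, map_zero]
      convert! h using 2
      exact RingHom.ext fun p => (IntermediateField.aeval_coe K x' p).symm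
    by_contra hne
    exact absurd (natDegree_le_of_dvd (minpoly.isIntegrallyClosed_dvd hint h') hne) (not_le.2 hp)
  · intro z hz
    let z' : K := ⟨z, IntermediateField.subset_adjoin k _ hz⟩
    have h : z' ∈ IntermediateField.adjoin k ({x', y'} : Set K) := htop ▸ IntermediateField.mem_top
    have hm : (IntermediateField.adjoin k ({x', y'} : Set K)).map K.val =
        IntermediateField.adjoin k ({(x' : Ω), (y' : Ω)} : Set Ω) := by
      rw [IntermediateField.adjoin_map, Set.image_pair]
      rfl
    exact hm ▸ ((IntermediateField.mem_map _).2 ⟨z', h, rfl⟩)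

end Groth.Agent.PointLower
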