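import Groth.Agent.PointLower.CurveBound
import Groth.Agent.PointLower.Model
import Groth.Agent.PointLower.Fibres
import Groth.Agent.GeomIrredSpread.Factor

/-!
# A lower bound `c q^r` for the points of an affine domain of transcendence degree `r`
-/

set_option autoImplicit false
set_option maxSynthPendingDepth 3

universe u

open Polynomial

namespace Groth.Agent.PointLower

/-- Irreducibility of a monic plane equation over an algebraically closed field spreads out. -/
theorem exists_irred_open {A L : Type u} [CommRing A] [IsDomain A] [Field L] [IsAlgClosed L] [Algebra A L]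
    (hinj : Function.Injective (algebraMap A L)) (g : A[X][X]) (hg : g.Monic)
    (hirr : Irreducible (g.map (mapRingHom (algebraMap A L)))) :
    ∃ f : A, f ≠ 0 ∧ ∀ (k : Type u) [Field k] (φ : A →+* k), φ f ≠ 0 →
      Irreducible (g.map (mapRingHom φ)) := by
  let e : ∀ (B : Type u) [CommRing B], B[X] ≃+* MvPolynomial PUnit.{u + 1} B := fun B _ =>
    (MvPolynomial.pUnitAlgEquiv B).symm.toRingEquiv
  have hnat : ∀ (B : Type u) [CommRing B] (φ : A →+* B),
      (MvPolynomial.map φ).comp (e A).toRingHom = (e B).toRingHom.comp (mapRingHom φ) := fun B _ φ =>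
    Polynomial.ringHom_ext (fun a => by simp [e]) (by simp [e])
  have hiff : ∀ (B : Type u) [Field B] (φ : A →+* B),
      Irreducible ((g.map (e A).toRingHom).map (MvPolynomial.map φ)) ↔ Irreducible (g.map (mapRingHom φ)) := by
    intro B _ φ
    rw [Polynomial.map_map, hnat, ← Polynomial.map_map]
    exact MulEquiv.irreducible_iff (Polynomial.mapEquiv (e B)).toMulEquiv
  obtain ⟨f, hf, hf'⟩ := GeomIrredSpread.exists_forall_irreducible_map hinj (g.map (e A).toRingHom)
    (hg.map _) ((hiff L _).2 hirr)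
  exact ⟨f, hf, fun k _ φ hφ => (hiff k φ).1 (hf' k φ hφ)⟩

variable (R : Type u) [CommRing R] (Ω : Type u) [Field Ω] [Algebra R Ω]

/-- A lower bound `c q^r` for the number of points of `R[S]` over the finite fields receiving some
fixed finite extension of `R`. -/
def Good (S : Set Ω) (r : ℕ) : Prop :=
  ∃ T : Finset Ω, (∀ z ∈ T, IsAlgebraic R z) ∧ ∃ c : ℝ, 0 < c ∧ ∃ N : ℕ,
    ∀ (F : Type u) [Field F] [Finite F] [Algebra R F], Nonempty (Algebra.adjoin R (T : Set Ω) →ₐ[R] F) →
      N ≤ Nat.card F → c * (Nat.card F : ℝ) ^ r ≤ Nat.card (Algebra.adjoin R S →ₐ[R] F)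

variable {R Ω}

theorem Good.mk_zero (S : Finset Ω) (h : ∀ z ∈ S, IsAlgebraic R z) : Good R Ω S 0 := by
  refine ⟨S, h, 1, one_pos, 0, fun F _ _ _ hne _ => ?_⟩
  haveI := finite_pts (R := R) S.finite_toSet F
  rw [pow_zero, mul_one, Nat.one_le_cast]
  exact Nat.card_pos (α := Algebra.adjoin R (S : Set Ω) →ₐ[R] F)

/-- From the zero set of a monic equation in a subalgebra: a multiple of a nonzero element lying in the
coefficient ring. -/
theorem exists_norm {P : Type u} [CommRing P] [IsDomain P] (g : P[X]) (hg : g.Monic)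
    (θ : P →+* Ω) (hθ : Function.Injective θ) (y : Ω) (hy : eval₂ θ y g = 0) (H : P[X]) (hH : eval₂ θ y H ≠ 0) :
    ∃ (c : P) (Q : P[X]), c ≠ 0 ∧ eval₂ θ y (C c + H * Q) = 0 := by
  letI := θ.toAlgebra
  haveI : FaithfulSMul P Ω := (faithfulSMul_iff_algebraMap_injective P Ω).2 hθ
  have hint : IsIntegral P (aeval y H) := by
    have h1 : Algebra.adjoin P ({y} : Set Ω) ≤ integralClosure P Ω := by
      rw [Algebra.adjoin_le_iff, Set.singleton_subset_iff]
      exact ⟨g, hg, hy⟩
    exact h1 (aeval_mem_adjoin_singleton P y)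
  set h := aeval y H
  set p := minpoly P h
  refine ⟨p.coeff 0, p.divX.comp H, fun h0 => ?_, ?_⟩
  · have hirr := minpoly.irreducible hint
    have hX : (X : P[X]) ∣ p := X_dvd_iff.2 h0
    obtain ⟨q, hq⟩ := hX
    rcases hirr.isUnit_or_isUnit hq with hu | hu
    · exact not_isUnit_X hu
    · obtain ⟨c, hc, rfl⟩ := isUnit_iff.1 hu
      have h1 := minpoly.aeval P h
      change aeval h p = 0 at h1
      rw [hq, map_mul, aeval_X, aeval_C, mul_eq_zero] at h1
      rcases h1 with h1 | h1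
      · exact hH h1
      · exact hc.ne_zero (hθ (h1.trans (map_zero θ).symm))
  · show aeval y (C (p.coeff 0) + H * p.divX.comp H) = 0
    rw [map_add, map_mul, aeval_comp, aeval_C]
    have h1 := minpoly.aeval P h
    change aeval h p = 0 at h1
    rw [← X_mul_divX_add p, map_add, map_mul, aeval_X, aeval_C] at h1
    rwa [add_comm]

theorem card_good_le {F : Type u} [Field F] [Finite F] (g : F[X][X]) (hg : g.Monic) {D : ℕ}
    (hD : ∀ j, (g.coeff j).natDegree ≤ D)
    (hirr : Irreducible (g.map (mapRingHom (algebraMap F (AlgebraicClosure F))))) (c : F[X]) (hc : c ≠ 0)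
    {e : ℕ} (he : c.natDegree ≤ e)
    (hq : (8 * (D * g.natDegree ^ 2 + 1)) ^ 2 + 4 * g.natDegree * (1 + e) ≤ Nat.card F) :
    (Nat.card F : ℝ) ≤ 2 * g.natDegree *
      Nat.card {a : F // c.eval a ≠ 0 ∧ ∃ b, (g.map (evalRingHom a)).IsRoot b} := by
  classical
  letI := Fintype.ofFinite F
  have h := card_abscissae g hg hD hirr
  set d := g.natDegree
  set C₀ := D * d ^ 2 + 1
  set A := Finset.univ.filter fun a : F => ∃ b, (g.map (evalRingHom a)).IsRoot b
  set A' := Finset.univ.filter fun a : F => c.eval a ≠ 0 ∧ ∃ b, (g.map (evalRingHom a)).IsRoot b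
  have hsub : A ⊆ A' ∪ c.roots.toFinset := fun a ha => by
    simp only [A, A', Finset.mem_filter, Finset.mem_univ, true_and, Finset.mem_union, Multiset.mem_toFinset,
      mem_roots hc, Polynomial.IsRoot.def] at ha ⊢
    tauto
  have hcard : A.card ≤ A'.card + e := (Finset.card_le_card hsub).trans ((Finset.card_union_le _ _).trans
    (Nat.add_le_add_left (((Multiset.toFinset_card_le _).trans (card_roots' c)).trans he) _))
  rw [Nat.card_eq_fintype_card (α := Subtype _), Fintype.card_subtype] at h ⊢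
  change _ ≤ ((d * (A.card + 1) : ℕ) : ℝ) at h
  show (Nat.card F : ℝ) ≤ 2 * (d : ℝ) * (A'.card : ℝ)
  have hcard' : (A.card : ℝ) ≤ A'.card + e := by exact_mod_cast hcard
  set q : ℝ := (Nat.card F : ℝ)
  have hq' : (8 * (C₀ : ℝ)) ^ 2 + 4 * d * (1 + e) ≤ q := by
    simp only [q]
    exact_mod_cast hq
  have hd : (0 : ℝ) ≤ d := Nat.cast_nonneg _
  have hsq : 8 * (C₀ : ℝ) ≤ Real.sqrt q := Real.le_sqrt_of_sq_le (by nlinarith)
  have hqq : Real.sqrt q * Real.sqrt q = q := Real.mul_self_sqrt (Nat.cast_nonneg _)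
  push_cast at h
  nlinarith [mul_le_mul_of_nonneg_right hsq (Real.sqrt_nonneg q), mul_le_mul_of_nonneg_left hcard' hd]

theorem exists_supp {L : Type u} [Field L] [Algebra L Ω] (X₀ : Set Ω) {z : Ω} (hz : z ∈ Algebra.adjoin L X₀) :
    ∃ T : Finset Ω, (∀ t ∈ T, t ∈ Set.range (algebraMap L Ω)) ∧
      z ∈ Algebra.adjoin R ((T : Set Ω) ∪ X₀) := by
  classical
  induction hz using Algebra.adjoin_induction with
  | mem x hx => exact ⟨∅, by simp, Algebra.subset_adjoin (Or.inr hx)⟩
  | algebraMap r => exact ⟨{algebraMap L Ω r}, by simp, Algebra.subset_adjoin (Or.inl (by simp))⟩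
  | add a b _ _ iha ihb =>
    obtain ⟨T, hT, ha⟩ := iha
    obtain ⟨T', hT', hb⟩ := ihb
    refine ⟨T ∪ T', fun t ht => (Finset.mem_union.1 ht).elim (hT t) (hT' t), add_mem ?_ ?_⟩
    · exact Algebra.adjoin_mono (Set.union_subset_union_left _ (by simp)) ha
    · exact Algebra.adjoin_mono (Set.union_subset_union_left _ (by simp)) hb
  | mul a b _ _ iha ihb =>
    obtain ⟨T, hT, ha⟩ := iha
    obtain ⟨T', hT', hb⟩ := ihb
    refine ⟨T ∪ T', fun t ht => (Finset.mem_union.1 ht).elim (hT t) (hT' t), mul_mem ?_ ?_⟩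
    · exact Algebra.adjoin_mono (Set.union_subset_union_left _ (by simp)) ha
    · exact Algebra.adjoin_mono (Set.union_subset_union_left _ (by simp)) hb

/-- Points of a plane family `B'[x,y]` avoiding `h`, from points of the base and good abscissae. -/
theorem exists_family_bound [IsDomain R] {S' : Finset Ω} {x y : Ω}
    (L : Subfield Ω) [IsAlgClosed L] (hS'L : (S' : Set Ω) ⊆ L) (hRL : ∀ r, algebraMap R Ω r ∈ L)
    (gL : L[X][X]) (hgm : gL.Monic) (hgi : Irreducible gL)
    (hgS : ∀ i j, ((gL.coeff j).coeff i : Ω) ∈ Algebra.adjoin R (S' : Set Ω))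
    (hx : Function.Injective (aeval (R := L) x))
    (hgy : eval₂ (aeval (R := L) x).toRingHom y gL = 0)
    (hker : ∀ p : L[X][X], p.natDegree < gL.natDegree → eval₂ (aeval (R := L) x).toRingHom y p = 0 → p = 0)
    {G : Finset Ω} (hG : (G : Set Ω) = insert x (insert y (S' : Set Ω)))
    {h : Ω} (hh : h ∈ Algebra.adjoin R (G : Set Ω)) (h0 : h ≠ 0) :
    ∃ v : Ω, v ≠ 0 ∧ v⁻¹ ∈ Algebra.adjoin R (S' : Set Ω) ∧ ∃ c : ℝ, 0 < c ∧ ∃ N : ℕ,
      ∀ (F : Type u) [Field F] [Finite F] [Algebra R F], N ≤ Nat.card F →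
        c * (Nat.card F : ℝ) * Nat.card (Algebra.adjoin R (insert v (S' : Set Ω)) →ₐ[R] F) ≤
          Nat.card {ψ : Algebra.adjoin R (G : Set Ω) →ₐ[R] F // ψ ⟨h, hh⟩ ≠ 0} := by
  classical
  set B := Algebra.adjoin R (S' : Set Ω) with hB
  have hBL : ∀ b : B, (b : Ω) ∈ L := fun b => by
    let L' : Subalgebra R Ω := { L.toSubsemiring with algebraMap_mem' := hRL }
    exact (Algebra.adjoin_le (S := L') hS'L) b.2
  let ι : B →+* L := B.val.toRingHom.codRestrict L hBL
  letI algBL : Algebra B L := ι.toAlgebra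
  have hιinj : Function.Injective ι := fun a b hab => Subtype.ext (congrArg (fun t : L => (t : Ω)) hab)
  -- a model of the equation over the base
  obtain ⟨g, hgmap, hgdeg, hgmonic⟩ := Polynomial.lifts_and_natDegree_eq_and_monic
    (f := mapRingHom ι) ((lifts_iff_coeff_lifts _).2 fun j =>
      (show gL.coeff j ∈ lifts ι from (lifts_iff_coeff_lifts _).2 fun i =>
        ⟨⟨_, hgS i j⟩, Subtype.ext rfl⟩)) hgm
  obtain ⟨f, hf, hf'⟩ := exists_irred_open (A := B) (L := L) hιinj g hgmonic (by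
    show Irreducible (g.map (mapRingHom ι))
    rwa [hgmap])
  let θ : B[X] →+* Ω := (aeval (R := B) x).toRingHom
  have hθ : θ = (aeval (R := L) x).toRingHom.comp (mapRingHom ι) :=
    Polynomial.ringHom_ext (fun b => by simp [θ]; rfl) (by simp [θ])
  have hθinj : Function.Injective θ := by
    rw [hθ]
    exact hx.comp (map_injective ι hιinj)
  let ev : B[X][X] →ₐ[R] Ω :=
    { eval₂RingHom θ y with
      commutes' := fun r => by simp [θ, IsScalarTower.algebraMap_apply R B[X] B[X][X], Polynomial.algebraMap_apply] }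
  have hev : ∀ p, ev p = eval₂ θ y p := fun _ => rfl
  set E := Algebra.adjoin R (G : Set Ω)
  have hSE : (B : Set Ω) ⊆ E := Algebra.adjoin_mono (hG ▸ fun z hz => Or.inr (Or.inr hz))
  have hxE : x ∈ E := Algebra.subset_adjoin (hG ▸ Set.mem_insert x _)
  have hyE : y ∈ E := Algebra.subset_adjoin (hG ▸ Set.mem_insert_of_mem _ (Set.mem_insert y _))
  have hmem : ∀ p, ev p ∈ E := fun p => by
    rw [hev, eval₂_eq_sum_range]
    refine sum_mem fun j _ => mul_mem ?_ (pow_mem hyE j)
    show aeval x (p.coeff j) ∈ E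
    rw [aeval_eq_sum_range]
    refine sum_mem fun i _ => ?_
    rw [Algebra.smul_def]
    exact mul_mem (hSE ((p.coeff j).coeff i).2) (pow_mem hxE i)
  let evE : B[X][X] →ₐ[R] E := ev.codRestrict E hmem
  have hsurj : Function.Surjective evE := by
    have hle : E ≤ ev.range := Algebra.adjoin_le fun z hz => by
      rw [hG] at hz
      rcases hz with rfl | rfl | hz
      · exact ⟨C X, by show eval₂ θ _ _ = _; simp [θ]⟩
      · exact ⟨X, by show eval₂ θ _ _ = _; simp⟩
      · exact ⟨C (C ⟨z, Algebra.subset_adjoin hz⟩), by show eval₂ θ _ _ = _; simp [θ]⟩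
    rintro ⟨z, hz⟩
    obtain ⟨p, hp⟩ := hle hz
    exact ⟨p, Subtype.ext hp⟩
  have hevg : ev g = 0 := by
    rw [hev, hθ, ← eval₂_map, hgmap, hgy]
  have hkerev : ∀ p, ev p = 0 → g ∣ p := by
    intro p hp
    rw [← modByMonic_eq_zero_iff_dvd hgmonic]
    set r := p %ₘ g
    have hr : ev r = 0 := by
      rw [show r = p - g * (p /ₘ g) from eq_sub_of_add_eq (modByMonic_add_div p g), map_sub, map_mul, hp,
        hevg, zero_mul, sub_zero]
    refine map_injective (mapRingHom ι) (map_injective ι hιinj) ?_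
    rw [Polynomial.map_zero]
    refine hker _ (natDegree_map_le.trans_lt (hgdeg ▸ natDegree_modByMonic_lt p hgmonic fun h1 => ?_)) ?_
    · exact hgi.not_isUnit (hgmap ▸ h1 ▸ by simp)
    · rwa [eval₂_map, ← hθ]
  obtain ⟨H, hH⟩ := hsurj ⟨h, hh⟩
  obtain ⟨c₀, Q, hc₀, hcQ⟩ := exists_norm g hgmonic θ hθinj y hevg H
    (show eval₂ θ y H ≠ 0 by rw [show eval₂ θ y H = h from congrArg Subtype.val hH]; exact h0)
  set w : B := f * c₀.leadingCoeff
  have hw : w ≠ 0 := mul_ne_zero hf (leadingCoeff_ne_zero.2 hc₀)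
  refine ⟨(w : Ω)⁻¹, inv_ne_zero (by simpa using hw), by rw [inv_inv]; exact w.2, ?_⟩
  set D := (Finset.range (g.natDegree + 1)).sup fun j => (g.coeff j).natDegree
  set d := g.natDegree
  have hd : 0 < d := by
    refine Nat.pos_of_ne_zero fun hd0 => hgi.not_isUnit ?_
    rw [← hgmap, hgmonic.natDegree_eq_zero.1 hd0]
    simp
  refine ⟨1 / (2 * d), by positivity, (8 * (D * d ^ 2 + 1)) ^ 2 + 4 * d * (1 + c₀.natDegree),
    fun F _ _ _ hq => ?_⟩
  set B₁ := Algebra.adjoin R (insert ((w : Ω)⁻¹) (S' : Set Ω))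
  have hBB : B ≤ B₁ := Algebra.adjoin_mono (Set.subset_insert _ _)
  haveI : Finite (B₁ →ₐ[R] F) := finite_pts (R := R) (S'.finite_toSet.insert _) F
  haveI : Finite (E →ₐ[R] F) := finite_pts (R := R) G.finite_toSet F
  let φ : (B₁ →ₐ[R] F) → (B →ₐ[R] F) := fun χ => χ.comp (Subalgebra.inclusion hBB)
  have hφw : ∀ χ, φ χ w ≠ 0 := fun χ h1 => by
    have h2 : Subalgebra.inclusion hBB w * (⟨(w : Ω)⁻¹, Algebra.subset_adjoin (Set.mem_insert _ _)⟩ : B₁) = 1 :=
      Subtype.ext (mul_inv_cancel₀ (by simpa using hw))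
    have h3 := congrArg χ h2
    rw [map_mul, map_one, show χ (Subalgebra.inclusion hBB w) = 0 from h1, zero_mul] at h3
    exact zero_ne_one h3
  have hφinj : Function.Injective φ := fun χ χ' he => by
    refine AlgHom.adjoin_ext fun z hz => ?_
    have hb : ∀ b : B, χ (Subalgebra.inclusion hBB b) = χ' (Subalgebra.inclusion hBB b) :=
      fun b => AlgHom.congr_fun he b
    rcases hz with rfl | hz
    · have h2 : Subalgebra.inclusion hBB w * (⟨(w : Ω)⁻¹, Algebra.subset_adjoin (Set.mem_insert _ _)⟩ : B₁) = 1 :=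
        Subtype.ext (mul_inv_cancel₀ (by simpa using hw))
      have h3 := congrArg χ h2
      have h4 := congrArg χ' h2
      rw [map_mul, map_one] at h3 h4
      rw [← hb] at h4
      exact mul_left_cancel₀ (hφw χ) (h3.trans h4.symm)
    · exact hb ⟨z, Algebra.subset_adjoin hz⟩
  -- pairs (point of the base, good abscissa)
  let Pa : (B₁ →ₐ[R] F) → Type u := fun χ => {a : F // (c₀.map (φ χ).toRingHom).eval a ≠ 0 ∧
    ∃ b, ((g.map (mapRingHom (φ χ).toRingHom)).map (evalRingHom a)).IsRoot b}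
  have hPa : ∀ χ, (Nat.card F : ℝ) ≤ 2 * d * Nat.card (Pa χ) := fun χ => by
    have hfl := hφw χ
    rw [map_mul, mul_ne_zero_iff] at hfl
    have hdeg : (g.map (mapRingHom (φ χ).toRingHom)).natDegree = d := hgmonic.natDegree_map _
    have := card_good_le (g.map (mapRingHom (φ χ).toRingHom)) (hgmonic.map _) (D := D) (fun j => by
        rw [coeff_map]
        refine natDegree_map_le.trans ?_
        rcases le_or_gt j d with hj | hj
        · exact Finset.le_sup (f := fun i => (g.coeff i).natDegree) (Finset.mem_range.2 (Nat.lt_succ_of_le hj))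
        · rw [coeff_eq_zero_of_natDegree_lt hj, natDegree_zero]; exact Nat.zero_le _)
      (by
        rw [Polynomial.map_map, mapRingHom_comp]
        exact hf' (AlgebraicClosure F) _ (fun h1 => hfl.1 ((algebraMap F (AlgebraicClosure F)).injective (h1.trans (map_zero _).symm))))
      (c₀.map (φ χ).toRingHom) (fun h1 => hfl.2 (by
        have := congrArg (fun p : F[X] => p.coeff c₀.natDegree) h1
        simpa [coeff_map] using this))
      (e := c₀.natDegree) natDegree_map_le (by rw [hdeg]; exact hq)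
    rwa [hdeg] at this
  let Ψ : ∀ (χ : B₁ →ₐ[R] F) (a b : F), B[X][X] →ₐ[R] F := fun χ a b =>
    { eval₂RingHom (eval₂RingHom (φ χ).toRingHom a) b with
      commutes' := fun r => by simp [IsScalarTower.algebraMap_apply R B[X] B[X][X], Polynomial.algebraMap_apply] }
  have hΨ : ∀ χ a b p, Ψ χ a b p = eval₂ (eval₂RingHom (φ χ).toRingHom a) b p := fun _ _ _ _ => rfl
  have hlift : ∀ p : (Σ χ, Pa χ), ∃ ψ : {ψ : E →ₐ[R] F // ψ ⟨h, hh⟩ ≠ 0},
      (∀ b : B, ψ.1 ⟨b, hSE b.2⟩ = φ p.1 b) ∧ ψ.1 ⟨x, hxE⟩ = p.2.1 := by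
    rintro ⟨χ, a, hca, b, hb⟩
    have hg0 : Ψ χ a b g = 0 := by
      rw [hΨ]
      rw [Polynomial.IsRoot.def, eval_map, eval₂_map] at hb
      convert! hb using 2
      exact Polynomial.ringHom_ext (fun c => by simp) (by simp)
    have hle : ∀ p ∈ RingHom.ker evE.toRingHom, Ψ χ a b p = 0 := fun p hp => by
      obtain ⟨t, rfl⟩ := hkerev p (congrArg Subtype.val (RingHom.mem_ker.1 hp))
      rw [map_mul, hg0, zero_mul]
    let eqv := Ideal.quotientKerAlgEquivOfSurjective hsurj
    let ψ : E →ₐ[R] F := (Ideal.Quotient.liftₐ _ (Ψ χ a b) hle).comp eqv.symm.toAlgHom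
    have hψ : ∀ p, ψ (evE p) = Ψ χ a b p := fun p => by
      show Ideal.Quotient.liftₐ _ (Ψ χ a b) hle (eqv.symm (evE p)) = _
      rw [show eqv.symm (evE p) = Ideal.Quotient.mk _ p from eqv.symm_apply_eq.2 rfl]
      rfl
    refine ⟨⟨ψ, fun h1 => hca ?_⟩, fun c => ?_, ?_⟩
    · have h2 : evE (C c₀ + H * Q) = 0 := Subtype.ext hcQ
      have h3 := hψ (C c₀ + H * Q)
      rw [h2, map_zero, map_add, map_mul, ← hψ H, hH, h1, zero_mul, add_zero] at h3
      rw [eval_map]
      exact (show Ψ χ a b (C c₀) = eval₂ (φ χ).toRingHom a c₀ by rw [hΨ, eval₂_C]; rfl) ▸ h3.symm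
    · show ψ _ = _
      rw [show (⟨(c : Ω), hSE c.2⟩ : E) = evE (C (C c)) from Subtype.ext (by show _ = eval₂ θ y _; simp [θ]),
        hψ, hΨ]
      simp
    · show ψ _ = _
      rw [show (⟨x, hxE⟩ : E) = evE (C X) from Subtype.ext (by show _ = eval₂ θ y _; simp [θ]), hψ, hΨ]
      simp
  choose Γ hΓ1 hΓ2 using hlift
  have hΓ : Function.Injective Γ := by
    rintro ⟨χ, a⟩ ⟨χ', a'⟩ he
    have h1 : χ = χ' := hφinj (AlgHom.ext fun b => by
      rw [← hΓ1 ⟨χ, a⟩ b, ← hΓ1 ⟨χ', a'⟩ b, he])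
    subst h1
    exact congrArg (Sigma.mk χ) (Subtype.ext (by rw [← hΓ2 ⟨χ, a⟩, ← hΓ2 ⟨χ, a'⟩, he]))
  haveI : ∀ χ, Finite (Pa χ) := fun χ => Subtype.finite
  have hle := Nat.card_le_card_of_injective Γ hΓ
  letI := Fintype.ofFinite (B₁ →ₐ[R] F)
  rw [Nat.card_sigma] at hle
  refine le_trans ?_ (Nat.cast_le.2 hle)
  rw [Nat.card_eq_fintype_card (α := B₁ →ₐ[R] F), Nat.cast_sum, mul_comm _ ((Fintype.card _ : ℕ) : ℝ),
    ← nsmul_eq_mul]
  refine Finset.card_nsmul_le_sum _ _ _ fun χ _ => ?_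
  rw [one_div, inv_mul_le_iff₀ (by positivity)]
  exact hPa χ

/-- The inductive step. -/
theorem step [IsDomain R] [FaithfulSMul R Ω] [IsAlgClosed Ω] {s : ℕ}
    (IH : ∀ (u₀ : Fin s → Ω) (S₀ : Finset Ω), AlgebraicIndependent R u₀ → Set.range u₀ ⊆ S₀ →
      (∀ z ∈ S₀, IsAlgebraic (Algebra.adjoin R (Set.range u₀)) z) → Good R Ω S₀ s)
    (t : Fin (s + 1) → Ω) (S : Finset Ω) (hind : AlgebraicIndependent R t) (hsub : Set.range t ⊆ S)
    (halg : ∀ z ∈ S, IsAlgebraic (Algebra.adjoin R (Set.range t)) z) : Good R Ω S (s + 1) := by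
  classical
  let u₀ : Fin s → Ω := t ∘ Fin.castSucc
  have hu₀ : AlgebraicIndependent R u₀ := hind.comp _ (Fin.castSucc_injective _)
  let S0 := Algebra.adjoin R (Set.range u₀)
  haveI : FaithfulSMul S0 Ω := (faithfulSMul_iff_algebraMap_injective S0 Ω).2 Subtype.val_injective
  let K0 := FractionRing S0
  letI : Algebra K0 Ω := FractionRing.liftAlgebra S0 Ω
  haveI : IsScalarTower S0 K0 Ω := FractionRing.isScalarTower_liftAlgebra S0 Ω
  let L := _root_.algebraicClosure K0 Ω
  haveI : IsAlgClosed L := IsAlgClosure.isAlgClosed K0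
  have hmemL : ∀ z : Ω, z ∈ L ↔ IsAlgebraic S0 z := fun z =>
    mem_algebraicClosure_iff.trans (IsFractionRing.isAlgebraic_iff S0 K0 Ω).symm
  have hS0L : ∀ z ∈ S0, z ∈ L := fun z hz => (hmemL z).2 (isAlgebraic_algebraMap (⟨z, hz⟩ : S0))
  set w := t (Fin.last s)
  have hwtr : Transcendental L w := by
    have h1 : Transcendental S0 w := by
      have h := hind.transcendental_adjoin (s := Set.range Fin.castSucc) (i := Fin.last s) (by
        rintro ⟨j, hj⟩; exact (Fin.castSucc_lt_last j).ne hj)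
      rwa [← Set.range_comp] at h
    have h2 : Transcendental K0 w := fun h => h1 ((IsFractionRing.isAlgebraic_iff S0 K0 Ω).2 h)
    exact h2.extendScalars L
  have hSalg : ∀ z ∈ S, IsAlgebraic (IntermediateField.adjoin L ({w} : Set Ω)) z := by
    intro z hz
    set Lw := IntermediateField.adjoin L ({w} : Set Ω)
    have hT : ∀ r ∈ Algebra.adjoin R (Set.range t), r ∈ Lw := by
      intro r hr
      let Lw' : Subalgebra R Ω :=
        { Lw.toSubfield.toSubsemiring with
          algebraMap_mem' := fun r => Lw.algebraMap_mem (⟨_, hS0L _ (S0.algebraMap_mem r)⟩ : L) }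
      refine (Algebra.adjoin_le (S := Lw') ?_) hr
      rintro _ ⟨i, rfl⟩
      induction i using Fin.lastCases with
      | last => exact IntermediateField.subset_adjoin L _ rfl
      | cast j => exact Lw.algebraMap_mem (⟨_, hS0L _ (Algebra.subset_adjoin ⟨j, rfl⟩)⟩ : L)
    exact (halg z hz).ringHom_of_comp_eq
      ((Algebra.adjoin R (Set.range t)).val.toRingHom.codRestrict Lw fun r => hT r r.2) (RingHom.id Ω)
      (fun a b hab => Subtype.ext (congrArg (fun q : Lw => (q : Ω)) hab)) (RingHom.ext fun _ => rfl)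
  obtain ⟨x, y, gL, hx, hgm, hgi, hgy, hker, hxS, hyS, hSxy⟩ :=
    exists_plane_model S w (hsub ⟨_, rfl⟩) hwtr hSalg
  -- denominators
  have hfrac : ∀ α ∈ S, ∃ r ∈ Algebra.adjoin L ({x, y} : Set Ω), ∃ q ∈ Algebra.adjoin L ({x, y} : Set Ω),
      α = r / q := fun α hα => IntermediateField.mem_adjoin_iff_div.1 (hSxy hα)
  choose! r hr q hq hrq using hfrac
  have hq' : ∀ α ∈ S, α ≠ 0 → q α ≠ 0 := fun α hα h0 h => h0 (by rw [hrq α hα, h, div_zero])
  let qq : Ω → Ω := fun α => if α = 0 then 1 else q α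
  have hqq : ∀ α ∈ S, qq α ≠ 0 ∧ qq α ∈ Algebra.adjoin L ({x, y} : Set Ω) ∧
      α * qq α ∈ Algebra.adjoin L ({x, y} : Set Ω) := fun α hα => by
    simp only [qq]
    split_ifs with h
    · exact ⟨one_ne_zero, one_mem _, by rw [h, zero_mul]; exact zero_mem _⟩
    · refine ⟨hq' α hα h, hq α hα, ?_⟩
      rw [show α * q α = r α from (eq_div_iff (hq' α hα h)).1 (hrq α hα)]
      exact hr α hα
  let supp : Ω → Finset Ω := fun z =>
    if hz : z ∈ Algebra.adjoin L ({x, y} : Set Ω) then (exists_supp (R := R) _ hz).choose else ∅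
  let Cg : Finset Ω := (Finset.range (gL.natDegree + 1)).biUnion fun j =>
    ((gL.coeff j).support).image fun i => (((gL.coeff j).coeff i : L) : Ω)
  let S' : Finset Ω := Finset.image u₀ Finset.univ ∪ Cg ∪
    S.biUnion (fun α => supp (qq α) ∪ supp (α * qq α))
  have hS'L : (S' : Set Ω) ⊆ L := by
    intro z hz
    simp only [S', Cg, Finset.coe_union, Set.mem_union, SetLike.mem_coe, Finset.mem_image, Finset.mem_biUnion] at hz
    rcases hz with (⟨i, -, rfl⟩ | ⟨j, -, i, -, rfl⟩) | ⟨α, hα, hz⟩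
    · exact hS0L _ (Algebra.subset_adjoin ⟨i, rfl⟩)
    · exact ((gL.coeff j).coeff i).2
    · obtain ⟨-, h1, h2⟩ := hqq α hα
      rw [Finset.mem_union] at hz
      rcases hz with hz | hz
      · simp only [supp, dif_pos h1] at hz
        obtain ⟨c, hc⟩ := (exists_supp (R := R) _ h1).choose_spec.1 z hz
        exact hc ▸ c.2
      · simp only [supp, dif_pos h2] at hz
        obtain ⟨c, hc⟩ := (exists_supp (R := R) _ h2).choose_spec.1 z hz
        exact hc ▸ c.2
  let G : Finset Ω := insert x (insert y S')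
  have hG : (G : Set Ω) = insert x (insert y (S' : Set Ω)) := by simp [G]
  set E := Algebra.adjoin R (G : Set Ω)
  have hsuppE : ∀ α ∈ S, qq α ∈ E ∧ α * qq α ∈ E := fun α hα => by
    obtain ⟨-, h1, h2⟩ := hqq α hα
    have hm : ∀ z (hz : z ∈ Algebra.adjoin L ({x, y} : Set Ω)), supp z ⊆ S' → z ∈ E := fun z hz hs => by
      refine Algebra.adjoin_mono ?_ (exists_supp (R := R) _ hz).choose_spec.2
      simp only [supp, dif_pos hz] at hs
      rw [hG]
      refine Set.union_subset ((Finset.coe_subset.2 hs).trans fun a ha => Or.inr (Or.inr ha)) ?_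
      rintro a (rfl | rfl)
      · exact Or.inl rfl
      · exact Or.inr (Or.inl rfl)
    have hsub' : supp (qq α) ∪ supp (α * qq α) ⊆ S' := fun z hz =>
      Finset.mem_union_right _ (Finset.mem_biUnion.2 ⟨α, hα, hz⟩)
    exact ⟨hm _ h1 (Finset.union_subset_left hsub'), hm _ h2 (Finset.union_subset_right hsub')⟩
  -- the generators are algebraic over `R[S]`
  set A := Algebra.adjoin R (S : Set Ω)
  haveI : FaithfulSMul A Ω := (faithfulSMul_iff_algebraMap_injective A Ω).2 Subtype.val_injective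
  have hS0A : S0 ≤ A := Algebra.adjoin_mono (by rintro _ ⟨i, rfl⟩; exact hsub ⟨_, rfl⟩)
  let Abar := Subalgebra.algebraicClosure A Ω
  have hinv : ∀ a ∈ Abar, a⁻¹ ∈ Abar := fun a ha => IsAlgebraic.inv_iff.2 ha
  have hLA : ∀ z ∈ L, z ∈ Abar := fun z hz =>
    ((hmemL z).1 hz).ringHom_of_comp_eq (Subalgebra.inclusion hS0A).toRingHom (RingHom.id Ω)
      (Subalgebra.inclusion_injective hS0A) (RingHom.ext fun _ => rfl)
  have hGA : ∀ z ∈ G, z ∈ Abar := by
    have hK : ∀ z ∈ IntermediateField.adjoin L (S : Set Ω), z ∈ Abar := fun z hz => by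
      obtain ⟨a, ha, b, hb, rfl⟩ := IntermediateField.mem_adjoin_iff_div.1 hz
      have h1 : ∀ c ∈ Algebra.adjoin L (S : Set Ω), c ∈ Abar := fun c hc => by
        induction hc using Algebra.adjoin_induction with
        | mem c hc => exact isAlgebraic_algebraMap (⟨c, Algebra.subset_adjoin hc⟩ : A)
        | algebraMap r => exact hLA _ r.2
        | add a b _ _ iha ihb => exact add_mem iha ihb
        | mul a b _ _ iha ihb => exact mul_mem iha ihb
      rw [div_eq_mul_inv]
      exact mul_mem (h1 a ha) (hinv _ (h1 b hb))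
    intro z hz
    simp only [G, Finset.mem_insert] at hz
    rcases hz with rfl | rfl | hz
    · exact hK _ hxS
    · exact hK _ hyS
    · exact hLA z (hS'L hz)
  choose! p hp0 hpne using fun z (hz : z ∈ G) => show ∃ p : A[X], aeval z p = 0 ∧ p ≠ 0 from
    let ⟨p, h1, h2⟩ := hGA z hz; ⟨p, h2, h1⟩
  set h₁ := ∏ α ∈ S, qq α with hh₁def
  have hh₁ : h₁ ∈ E := prod_mem fun α hα => (hsuppE α hα).1
  have hh₁0 : h₁ ≠ 0 := Finset.prod_ne_zero_iff.2 fun α hα => (hqq α hα).1
  have hAloc : A ≤ Loc E hh₁ := Algebra.adjoin_le fun α hα => by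
    refine ⟨1, ?_⟩
    rw [pow_one, hh₁def, ← Finset.mul_prod_erase S qq hα, ← mul_assoc]
    exact mul_mem (hsuppE α hα).2 (prod_mem fun β hβ => (hsuppE β (Finset.mem_of_mem_erase hβ)).1)
  choose! N hN using fun z (_ : z ∈ G) => hAloc (p z).leadingCoeff.2
  set h := h₁ * ∏ z ∈ G, ((p z).leadingCoeff : Ω) * h₁ ^ N z with hhdef
  have hh : h ∈ E := mul_mem hh₁ (prod_mem hN)
  have hlc : ∀ z ∈ G, ((p z).leadingCoeff : Ω) ≠ 0 := fun z hz => by
    simpa using hpne z hz
  have h0 : h ≠ 0 := mul_ne_zero hh₁0 (Finset.prod_ne_zero_iff.2 fun z hz =>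
    mul_ne_zero (hlc z hz) (pow_ne_zero _ hh₁0))
  have hle : Loc E hh₁ ≤ Loc E hh := fun z ⟨M, hM⟩ => by
    refine ⟨M, ?_⟩
    rw [hhdef, mul_pow, ← mul_assoc]
    exact mul_mem hM (pow_mem (prod_mem hN) _)
  have hinvloc : ∀ z ∈ G, ((p z).leadingCoeff : Ω)⁻¹ ∈ Loc E hh := fun z hz => by
    refine ⟨1, ?_⟩
    rw [pow_one, hhdef, ← Finset.mul_prod_erase G _ hz]
    rw [show ∀ a b c P : Ω, a⁻¹ * (b * (a * c * P)) = (a⁻¹ * a) * (b * (c * P)) from fun _ _ _ _ => by ring,
      inv_mul_cancel₀ (hlc z hz), one_mul]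
    exact mul_mem hh₁ (mul_mem (pow_mem hh₁ _) (prod_mem fun z' hz' => hN z' (Finset.mem_of_mem_erase hz')))
  obtain ⟨M, hM, hfib⟩ := exists_fibre_bound S hh (fun α hα => hle (hAloc (Algebra.subset_adjoin hα)))
    fun z hz => ⟨p z, hp0 z hz, hlc z hz, hinvloc z hz⟩
  have hRL : ∀ a, algebraMap R Ω a ∈ L.toSubfield := fun a => hS0L _ (S0.algebraMap_mem a)
  have hgS : ∀ i j, (((gL.coeff j).coeff i : L) : Ω) ∈ Algebra.adjoin R (S' : Set Ω) := fun i j => by
    by_cases hij : (gL.coeff j).coeff i = 0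
    · rw [hij]; exact zero_mem _
    refine Algebra.subset_adjoin (Finset.mem_union_left _ (Finset.mem_union_right _ ?_))
    refine Finset.mem_biUnion.2 ⟨j, Finset.mem_range.2 (Nat.lt_succ_of_le ?_),
      Finset.mem_image.2 ⟨i, mem_support_iff.2 hij, rfl⟩⟩
    exact le_natDegree_of_ne_zero fun h => hij (by rw [h, coeff_zero])
  obtain ⟨v, hv0, hvB, c, hc, N₁, hfam⟩ := exists_family_bound L.toSubfield hS'L hRL gL hgm hgi hgS hx hgy
    hker hG hh h0
  have hBL : ∀ z ∈ Algebra.adjoin R (S' : Set Ω), IsAlgebraic S0 z := fun z hz => (hmemL z).1 (by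
    let L' : Subalgebra R Ω := { L.toSubfield.toSubsemiring with algebraMap_mem' := hRL }
    exact (Algebra.adjoin_le (S := L') hS'L) hz)
  obtain ⟨T, hT, c', hc', N₂, hbase⟩ := IH u₀ (insert v S') hu₀ (by
      rintro _ ⟨i, rfl⟩
      exact Finset.mem_insert_of_mem (Finset.mem_union_left _ (Finset.mem_union_left _
        (Finset.mem_image_of_mem _ (Finset.mem_univ i)))))
    (fun z hz => by
      rcases Finset.mem_insert.1 hz with rfl | hz
      · exact IsAlgebraic.inv_iff.1 (hBL _ hvB)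
      · exact hBL z (Algebra.subset_adjoin hz))
  refine ⟨T, hT, c * c' / M, by positivity, max N₁ N₂, fun F _ _ _ hne hq => ?_⟩
  have h1 := hfam F (le_trans (le_max_left _ _) hq)
  have h2 := hbase F hne (le_trans (le_max_right _ _) hq)
  rw [Finset.coe_insert] at h2
  have h3 : (Nat.card {ψ : E →ₐ[R] F // ψ ⟨h, hh⟩ ≠ 0} : ℝ) ≤
      M * Nat.card (A →ₐ[R] F) := by exact_mod_cast hfib F
  rw [div_mul_eq_mul_div, div_le_iff₀ (by exact_mod_cast hM), mul_comm _ (M : ℝ)]
  refine le_trans ?_ (h1.trans h3)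
  calc c * c' * (Nat.card F : ℝ) ^ (s + 1) = c * (Nat.card F : ℝ) * (c' * (Nat.card F : ℝ) ^ s) := by ring
    _ ≤ _ := mul_le_mul_of_nonneg_left h2 (by positivity)

/-- Affine domains of transcendence degree `s` have at least `c q^s` points over the finite fields
receiving a fixed finite extension of the base. -/
theorem exists_lower_bound [IsDomain R] [FaithfulSMul R Ω] [IsAlgClosed Ω] :
    ∀ (s : ℕ) (t : Fin s → Ω) (S : Finset Ω), AlgebraicIndependent R t → Set.range t ⊆ S →
      (∀ z ∈ S, IsAlgebraic (Algebra.adjoin R (Set.range t)) z) → Good R Ω S s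
  | 0, t, S, _, _, halg => Good.mk_zero S fun z hz => by
      have h := halg z hz
      have hbot : Algebra.adjoin R (Set.range t) = ⊥ := by
        rw [Set.range_eq_empty, Algebra.adjoin_empty]
      rw [hbot] at h
      exact IsAlgebraic.of_ringHom_of_comp_eq (f := (algebraMap R (⊥ : Subalgebra R Ω))) (g := RingHom.id Ω)
        h (fun ⟨a, ha⟩ => (Algebra.mem_bot.1 ha).imp fun r hr => Subtype.ext hr) Function.injective_id
        (RingHom.ext fun _ => rfl)
  | s + 1, t, S, hi, hs, ha => step (exists_lower_bound s) t S hi hs ha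

end Groth.Agent.PointLower
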